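/-
An invariant subsystem on the whole of `S`: its automorphism groups are normal and contain all the
`p`-elements; a criterion for it to be the whole system.
-/
import Cfsg.Agent.Fusion.Basic

set_option autoImplicit false

namespace CfsgLib.FusionSimple

open Cfsg Cfsg.FusionSystem CfsgLib.Fusion

variable {Ω : Type*} [Group Ω] {S : Subgroup Ω} {F E : FusionSystem S}

/-- The subsystem relation on automorphism groups. -/
theorem autGroup_le_of_subsystem (h : E.IsSubsystemOf F) (P : Subgroup Ω) :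
    E.autGroup P ≤ F.autGroup P :=
  Subgroup.closure_mono fun _ hα => h P hα

/-- An isomorphism of `F` carries `Aut_E` onto `Aut_E` when `E` is invariant on all of `S`. -/
theorem congr_mem_autGroup_invariant (hE : E.IsInvariantIn F) {P Q : Subgroup Ω} {e : P ≃* Q}
    (he : IsIso F e) {γ : MulAut P} (hγ : γ ∈ E.autGroup P) :
    MulAut.congr e γ ∈ E.autGroup Q := by
  obtain ⟨-, -, hinv, hfr⟩ := hE
  obtain ⟨α, hα, φ₀, hφ₀, h0⟩ := hfr P he.le_left _ he
  obtain ⟨e₀, he₀, he₀v⟩ := exists_iso_range hφ₀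
  have hδ : MulAut.congr e₀ γ ∈ E.autGroup φ₀.range := congr_mem_autGroup he₀ hγ
  have hR : φ₀.range ≤ S := range_le hφ₀
  have hδ' : IsIso E (MulAut.congr e₀ γ : φ₀.range ≃* φ₀.range) := (mem_autGroup_iff hR).1 hδ
  obtain ⟨χ, hχ, hχv⟩ := hinv φ₀.range hR _ hδ' α hα
  have hev : ∀ x : P, ((e x : Q) : Ω) = ((α ⟨φ₀ x, apply_mem hφ₀ x⟩ : S) : Ω) :=
    fun x => h0 x (apply_mem hφ₀ x)
  have himg : Q = (φ₀.range.subgroupOf S).map (S.subtype.comp α.toMonoidHom) := by
    ext y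
    constructor
    · intro hy
      refine ⟨⟨φ₀ (e.symm ⟨y, hy⟩), apply_mem hφ₀ _⟩, ⟨_, rfl⟩, ?_⟩
      have := hev (e.symm ⟨y, hy⟩)
      rw [MulEquiv.apply_symm_apply] at this
      exact this.symm
    · rintro ⟨⟨z, hz⟩, ⟨x, hx⟩, rfl⟩
      have h := hev x
      have : (⟨φ₀ x, apply_mem hφ₀ x⟩ : S) = ⟨z, hz⟩ := Subtype.ext hx
      rw [this] at h
      show ((α ⟨z, hz⟩ : S) : Ω) ∈ Q
      rw [← h]
      exact (e x).2
  refine (mem_autGroup_iff he.le_right).2 (mem_of_eq himg hχ fun y hy => ?_)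
  obtain ⟨x, hx⟩ := e.surjective ⟨y, hy⟩
  have hyv : y = ((e x : Q) : Ω) := (congrArg Subtype.val hx).symm
  have hzS : (φ₀.range.subtype.comp (MulAut.congr e₀ γ).toMonoidHom) (e₀ x) ∈ S :=
    hR (MulAut.congr e₀ γ (e₀ x)).2
  have hmem : ((α ⟨(e₀ x : Ω), hR (e₀ x).2⟩ : S) : Ω) ∈
      (φ₀.range.subgroupOf S).map (S.subtype.comp α.toMonoidHom) :=
    ⟨⟨(e₀ x : Ω), hR (e₀ x).2⟩, (e₀ x).2, rfl⟩
  have h1 := hχv (e₀ x) hzS hmem
  have h2 : (⟨((α ⟨(e₀ x : Ω), hR (e₀ x).2⟩ : S) : Ω), hmem⟩ :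
      ↥((φ₀.range.subgroupOf S).map (S.subtype.comp α.toMonoidHom))) = ⟨y, himg ▸ hy⟩ := by
    apply Subtype.ext
    show ((α ⟨(e₀ x : Ω), hR (e₀ x).2⟩ : S) : Ω) = y
    rw [hyv, hev x]
    congr 2
    exact Subtype.ext (he₀v x)
  rw [h2] at h1
  refine Eq.trans ?_ h1.symm
  show ((MulAut.congr e γ ⟨y, hy⟩ : Q) : Ω) = _
  have hex : (MulAut.congr e γ ⟨y, hy⟩ : Q) = e (γ x) := by
    rw [← hx]; simp [MulAut.congr]
  rw [hex, hev (γ x)]
  congr 2
  apply Subtype.ext
  show φ₀ (γ x) = ((MulAut.congr e₀ γ (e₀ x) : φ₀.range) : Ω)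
  rw [← he₀v]
  simp [MulAut.congr]

/-- `Aut_E(P)` is normal in `Aut_F(P)`. -/
theorem autGroup_normal_invariant (hE : E.IsInvariantIn F) {P : Subgroup Ω} (hP : P ≤ S) :
    ((E.autGroup P).subgroupOf (F.autGroup P)).Normal := by
  refine ⟨fun γ hγ β => ?_⟩
  have hβ : IsIso F ((β : MulAut P) : P ≃* P) := (mem_autGroup_iff hP).1 β.2
  have := congr_mem_autGroup_invariant hE hβ (Subgroup.mem_subgroupOf.1 hγ)
  rw [Subgroup.mem_subgroupOf]
  have e : MulAut.congr ((β : MulAut P) : P ≃* P) (γ : MulAut P) =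
      ((β * γ * β⁻¹ : F.autGroup P) : MulAut P) := by
    ext x
    rfl
  rwa [e] at this

/-- A normal subgroup containing a Sylow subgroup contains every `p`-element. -/
theorem mem_of_normal_of_sylow_le {H : Type*} [Group H] [Finite H] {p : ℕ} [Fact p.Prime]
    {N : Subgroup H} (hN : N.Normal) (R : Sylow p H) (hR : (R : Subgroup H) ≤ N) {x : H} {k : ℕ}
    (hx : orderOf x = p ^ k) : x ∈ N := by
  have hp : IsPGroup p (Subgroup.zpowers x) :=
    IsPGroup.of_card (n := k) (by rw [Nat.card_zpowers, hx])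
  obtain ⟨R', hR'⟩ := hp.exists_le_sylow
  obtain ⟨g, hg⟩ := MulAction.exists_smul_eq H R R'
  have hxR : x ∈ (R' : Subgroup H) := hR' (Subgroup.mem_zpowers x)
  rw [← hg, Sylow.coe_subgroup_smul, Subgroup.mem_pointwise_smul_iff_inv_smul_mem] at hxR
  have h2 : (MulAut.conj g)⁻¹ • x ∈ N := hR hxR
  have h3 := hN.conj_mem _ h2 g
  simpa [MulAut.smul_def, mul_assoc] using h3

/-- The `p`-elements of `Aut_F(P)` lie in `Aut_E(P)`, for `P` fully automized. -/
theorem mem_autGroup_of_pow_of_fullyAutomized [Finite S] {p : ℕ} [Fact p.Prime]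
    (hE : E.IsInvariantIn F) {P : Subgroup Ω} (hP : F.IsFullyAutomized p P) {γ : MulAut P}
    (hγ : γ ∈ F.autGroup P) {k : ℕ} (hk : orderOf γ = p ^ k) : γ ∈ E.autGroup P := by
  obtain ⟨hPS, R, hR⟩ := hP
  have : Finite P := finite_of_le hPS
  have : Finite (MulAut P) := Finite.of_injective (fun f : MulAut P => (f : P → P))
    (fun a b h => MulEquiv.ext (congrFun h))
  have hle : (R : Subgroup (F.autGroup P)) ≤ (E.autGroup P).subgroupOf (F.autGroup P) := by
    rw [hR]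
    exact fun x hx => autInducedBy_le_autGroup hPS hx
  have h := mem_of_normal_of_sylow_le (autGroup_normal_invariant hE hPS) R hle
    (x := ⟨γ, hγ⟩) (k := k) (by rw [← hk, ← Subgroup.orderOf_coe])
  exact h

/-- The `p`-elements of `Aut_F(P)` lie in `Aut_E(P)`, as soon as every subgroup of `S` has a fully
automized conjugate (so for saturated `F`). -/
theorem mem_autGroup_of_pow [Finite S] {p : ℕ} [Fact p.Prime] (hF : F.IsSaturated p)
    (hE : E.IsInvariantIn F) {P : Subgroup Ω} (hP : P ≤ S) {γ : MulAut P}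
    (hγ : γ ∈ F.autGroup P) {k : ℕ} (hk : orderOf γ = p ^ k) : γ ∈ E.autGroup P := by
  obtain ⟨Q, hQ, haut, -⟩ := hF P hP
  obtain ⟨e, he⟩ := isConj_iff.1 hQ
  have h1 := congr_mem_autGroup he hγ
  have h2 : MulAut.congr e γ ∈ E.autGroup Q :=
    mem_autGroup_of_pow_of_fullyAutomized hE haut h1
      (by rw [MulEquiv.orderOf_eq]; exact hk)
  have h3 := congr_mem_autGroup_invariant hE he.symm h2
  have e2 : MulAut.congr e.symm (MulAut.congr e γ) = γ := by
    ext x; simp [MulAut.congr]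
  rwa [e2] at h3

/-- `O^{p'}(Aut_F(P)) ≤ Aut_E(P)`. -/
theorem closure_pElements_le [Finite S] {p : ℕ} [Fact p.Prime] (hF : F.IsSaturated p)
    (hE : E.IsInvariantIn F) {P : Subgroup Ω} (hP : P ≤ S) :
    (Subgroup.closure {α : F.autGroup P | ∃ k : ℕ, orderOf α = p ^ k}).map
      (F.autGroup P).subtype ≤ E.autGroup P := by
  rw [Subgroup.map_le_iff_le_comap, Subgroup.closure_le]
  rintro α ⟨k, hk⟩
  exact mem_autGroup_of_pow hF hE hP α.2 (k := k) (by rw [← hk, Subgroup.subtype_apply, Subgroup.orderOf_coe])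

/-- An invariant subsystem on `S` with the same automorphisms of `S` is the whole system. -/
theorem hom_eq_of_autGroup_self_le (hE : E.IsInvariantIn F)
    (h : F.autGroup S ≤ E.autGroup S) (P : Subgroup Ω) : E.Hom P = F.Hom P := by
  refine Set.Subset.antisymm (hE.1 P) fun φ hφ => ?_
  obtain ⟨α, hα, φ₀, hφ₀, h0⟩ := hE.2.2.2 P (le_left hφ) φ hφ
  have hαE : IsIso E (α : S ≃* S) := (mem_autGroup_iff le_rfl).1 (h hα)
  exact mem_of_comp hφ₀ hαE (apply_mem hφ₀) fun x => h0 x _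

end CfsgLib.FusionSimple
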