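/-
A criterion for the fusion system of a group on a subgroup to be simple: no proper nontrivial
strongly closed subgroup, and the automorphisms of `S` are generated by those induced by elements
of the subgroups generated by the `p`-elements of the normalizers of centric subgroups.

The two facts about saturation needed (the system of the group is saturated; centric subgroups
are receptive in a saturated system) enter as hypotheses.
-/
import Cfsg.Agent.FusionSimple.Invariant
import Mathlib.GroupTheory.Nilpotent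

set_option autoImplicit false

namespace CfsgLib.FusionSimple

open Cfsg Cfsg.FusionSystem CfsgLib.Fusion

variable {G : Type*} [Group G] {S : Subgroup G} {p : ℕ}

/-- Conjugation by an element of the normalizer of `P ≤ S` is in the automorphism group. -/
theorem normalizerMonoidHom_mem_autGroup {P : Subgroup G} (hP : P ≤ S)
    (g : Subgroup.normalizer (P : Set G)) :
    P.normalizerMonoidHom g ∈ (groupFusionSystem S).autGroup P :=
  IsIso.mem_autGroup ⟨hP, fun x => hP (P.normalizerMonoidHom g x).2, g, fun _ => rfl⟩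

/-- The automorphisms of `S` in its group fusion system are conjugations. -/
theorem exists_normalizer_of_mem_autGroup {α : MulAut S}
    (hα : α ∈ (groupFusionSystem S).autGroup S) :
    ∃ g : Subgroup.normalizer (S : Set G), S.normalizerMonoidHom g = α := by
  obtain ⟨-, -, g, hg⟩ := (mem_autGroup_iff le_rfl).1 hα
  have h : α ∈ autInducedBy (⊤ : Subgroup G) S :=
    Subgroup.subset_closure ⟨g, Subgroup.mem_top _, hg⟩
  obtain ⟨g', -, hn, h'⟩ := mem_autInducedBy_iff.1 h
  exact ⟨⟨g', hn⟩, MulEquiv.ext fun x => Subtype.ext (h' x).symm⟩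

/-- A subgroup of a finite `p`-group `S` other than `S` is properly contained in its normalizer
in `S`. -/
theorem lt_normalizerIn [Finite S] [Fact p.Prime] (hS : IsPGroup p S) {R : Subgroup G}
    (hR : R ≤ S) (hne : R ≠ S) : R < normalizerIn S R := by
  refine lt_of_le_of_ne (le_normalizerIn hR) fun heq => ?_
  have := hS.isNilpotent
  have hnc := Group.normalizerCondition_of_isNilpotent (G := S) (R.subgroupOf S)
    (lt_of_le_of_ne le_top fun h => hne (le_antisymm hR (Subgroup.subgroupOf_eq_top.1 h)))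
  refine hnc.ne (le_antisymm hnc.le ?_)
  intro x hx
  rw [Subgroup.mem_subgroupOf, heq]
  refine ⟨x.2, Subgroup.mem_normalizer_iff.2 fun h => ⟨fun hh => ?_, fun hh => ?_⟩⟩
  · have := (Subgroup.mem_normalizer_iff.1 hx ⟨h, hR hh⟩).1 hh
    exact this
  · have hS' : (x : G)⁻¹ * ((x : G) * h * (x : G)⁻¹) * x ∈ S :=
      S.mul_mem (S.mul_mem (S.inv_mem x.2) (hR hh)) x.2
    have hh' : h ∈ S := by simpa [mul_assoc] using hS'
    exact (Subgroup.mem_normalizer_iff.1 hx ⟨h, hh'⟩).2 hh

/-- An element `x` centralizing a centric `R` and normalizing a subgroup of `N_S(R)` containing `R`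
induces on it an automorphism of `p`-power order. -/
theorem exists_orderOf_normalizerMonoidHom [Finite S] [Fact p.Prime] (hS : IsPGroup p S)
    {R N : Subgroup G} (hRN : R ≤ N) (hN : N ≤ normalizerIn S R) (hc : centralizerIn S R ≤ R)
    (x : Subgroup.normalizer (N : Set G)) (hx : ∀ r ∈ R, (x : G) * r * (x : G)⁻¹ = r) :
    ∃ k, orderOf (N.normalizerMonoidHom x) = p ^ k := by
  have hRS : R ≤ S := (hRN.trans hN).trans (normalizerIn_le S R)
  have : Finite R := finite_of_le hRS
  obtain ⟨m, hm⟩ := (hS.to_le hRS).exists_card_eq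
  set b := N.normalizerMonoidHom x with hb
  have key : ∀ n : N, ∃ z : R, ((b n : N) : G) = n * z ∧ ∀ j : ℕ, (((b ^ j) n : N) : G) =
      n * ((z : G) ^ j) := by
    intro n
    have hz : (n : G)⁻¹ * (b n : N) ∈ R := by
      refine hc (mem_centralizerIn'.2 ⟨(normalizerIn_le S R) (hN (N.mul_mem (N.inv_mem n.2)
        (b n).2)), fun r hr => ?_⟩)
      have hnR : (n : G) * r * (n : G)⁻¹ ∈ R := (Subgroup.mem_normalizer_iff.1 (hN n.2).2 r).1 hr
      have h1 := hx _ hnR
      have h2 : ((b n : N) : G) * r * ((b n : N) : G)⁻¹ = (n : G) * r * (n : G)⁻¹ := by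
        conv_rhs => rw [← h1]
        conv_lhs => rw [← hx r hr]
        show (x : G) * n * (x : G)⁻¹ * _ * ((x : G) * n * (x : G)⁻¹)⁻¹ = _
        simp [mul_assoc]
      calc ((n : G)⁻¹ * (b n : N)) * r * ((n : G)⁻¹ * (b n : N))⁻¹
          = (n : G)⁻¹ * (((b n : N) : G) * r * ((b n : N) : G)⁻¹) * n := by simp [mul_assoc]
        _ = r := by rw [h2]; simp [mul_assoc]
    refine ⟨⟨_, hz⟩, by simp, fun j => ?_⟩
    induction j with
    | zero => simp
    | succ j ih =>
      have e : (b ^ j) n = n * ⟨((n : G)⁻¹ * (b n : N)) ^ j, hRN (R.pow_mem hz j)⟩ :=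
        Subtype.ext ih
      rw [pow_succ', MulAut.mul_apply, e, map_mul, Subgroup.coe_mul, pow_succ']
      have hf : ((b ⟨((n : G)⁻¹ * (b n : N)) ^ j, hRN (R.pow_mem hz j)⟩ : N) : G) =
          ((n : G)⁻¹ * (b n : N)) ^ j := hx _ (R.pow_mem hz j)
      rw [hf]
      simp [mul_assoc]
  have hpow : b ^ (p ^ m) = 1 := by
    ext n
    obtain ⟨z, -, hz⟩ := key n
    rw [hz, ← hm, ← SubgroupClass.coe_pow, pow_card_eq_one']
    simp
  obtain ⟨j, -, hj⟩ := (Nat.dvd_prime_pow Fact.out).1 (orderOf_dvd_of_pow_eq_one hpow)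
  exact ⟨j, hj⟩

/-- The `p`-generated part of a normalizer induces automorphisms lying in every invariant
subsystem on `S`. -/
theorem normalizerMonoidHom_closure_mem [Finite S] [Fact p.Prime]
    (hF : (groupFusionSystem S).IsSaturated p) {E : FusionSystem S}
    (hE : E.IsInvariantIn (groupFusionSystem S)) {R : Subgroup G} (hR : R ≤ S) {g : G}
    (hg : g ∈ Subgroup.closure {y : G | y ∈ Subgroup.normalizer (R : Set G) ∧
      ∃ k : ℕ, orderOf y = p ^ k}) :
    ∃ h : g ∈ Subgroup.normalizer (R : Set G),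
      R.normalizerMonoidHom ⟨g, h⟩ ∈ E.autGroup R := by
  have hle : Subgroup.closure {y : G | y ∈ Subgroup.normalizer (R : Set G) ∧
      ∃ k : ℕ, orderOf y = p ^ k} ≤
      ((E.autGroup R).comap R.normalizerMonoidHom).map
        (Subgroup.normalizer (R : Set G)).subtype := by
    rw [Subgroup.closure_le]
    rintro y ⟨hy, k, hk⟩
    refine ⟨⟨y, hy⟩, ?_, rfl⟩
    have hd : orderOf (R.normalizerMonoidHom ⟨y, hy⟩) ∣ p ^ k := by
      refine (orderOf_map_dvd _ _).trans ?_
      rw [← hk, ← Subgroup.orderOf_coe]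
    obtain ⟨j, -, hj⟩ := (Nat.dvd_prime_pow Fact.out).1 hd
    exact mem_autGroup_of_pow hF hE hR (normalizerMonoidHom_mem_autGroup hR _) hj
  obtain ⟨⟨y, hy⟩, hyE, rfl⟩ := hle hg
  exact ⟨hy, hyE⟩

/-- Climbing from a centric subgroup to `S`. -/
theorem normalizerMonoidHom_self_mem [Finite S] [Fact p.Prime] (hS : IsPGroup p S)
    (hF : (groupFusionSystem S).IsSaturated p) {E : FusionSystem S}
    (hE : E.IsInvariantIn (groupFusionSystem S))
    (hrec : ∀ R : Subgroup G, E.IsCentric R → E.IsReceptive R)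
    (g : Subgroup.normalizer (S : Set G)) (R : Subgroup G)
    (hRc : (groupFusionSystem S).IsCentric R) (hgR : (g : G) ∈ Subgroup.normalizer (R : Set G))
    (hR : R.normalizerMonoidHom ⟨g, hgR⟩ ∈ E.autGroup R) :
    S.normalizerMonoidHom g ∈ E.autGroup S := by
  obtain ⟨n, hn⟩ : ∃ n, n = Nat.card S - Nat.card R := ⟨_, rfl⟩
  induction n using Nat.strong_induction_on generalizing R with
  | _ n ih =>
    have hRS : R ≤ S := hRc.1
    rcases eq_or_ne R S with rfl | hne
    · exact hR
    set N := normalizerIn S R with hNdef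
    have hlt : R < N := lt_normalizerIn hS hRS hne
    have hNS : N ≤ S := normalizerIn_le S R
    have hgS := g.2
    have hgN : (g : G) ∈ Subgroup.normalizer (N : Set G) := by
      rw [Subgroup.mem_normalizer_iff]
      intro s
      have h1 := Subgroup.mem_normalizer_iff.1 hgS s
      have h2 : s ∈ Subgroup.normalizer (R : Set G) ↔
          (g : G) * s * (g : G)⁻¹ ∈ Subgroup.normalizer (R : Set G) :=
        ⟨fun h => Subgroup.mul_mem _ (Subgroup.mul_mem _ hgR h) (Subgroup.inv_mem _ hgR), fun h => by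
          have := Subgroup.mul_mem _ (Subgroup.mul_mem _ (Subgroup.inv_mem _ hgR) h) hgR
          simpa [mul_assoc] using this⟩
      exact and_congr h1 h2
    have hcE : E.IsCentric R :=
      ⟨hRS, fun Q ⟨φ, hφ, hr⟩ => hRc.2 Q ⟨φ, hE.1 R hφ, hr⟩⟩
    set φ := R.subtype.comp (R.normalizerMonoidHom ⟨g, hgR⟩).toMonoidHom with hφdef
    have hφ : φ ∈ E.Hom R := (mem_autGroup_iff hRS).1 hR
    have hrange : φ.range = R := range_subtype_comp _
    obtain ⟨ψ, hψ, hψext⟩ := (hrec R hcE).2 R φ hφ hrange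
    have hNle : N ≤ extender S R φ := by
      intro s hs
      refine mem_extender_iff.2 ⟨hs.1, hs.2, (g : G) * s * (g : G)⁻¹,
        (Subgroup.mem_normalizer_iff.1 hgS s).1 hs.1, fun x hx => ?_⟩
      show (g : G) * (s * x * s⁻¹) * (g : G)⁻¹ = _ * ((g : G) * x * (g : G)⁻¹) * _
      simp [mul_assoc]
    set ψN := restrictHom ψ hNle with hψN
    have hψNE : ψN ∈ E.Hom N := CfsgLib.Fusion.restrict_mem hψ hNle
    obtain ⟨-, hψS, h, hh⟩ := hE.1 N hψNE
    have hagree : ∀ r ∈ R, h * r * h⁻¹ = (g : G) * r * (g : G)⁻¹ := by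
      intro r hr
      rw [← hh ⟨r, hlt.le hr⟩]
      exact hψext r hr (hNle (hlt.le hr))
    have hNmap : N.map (MulAut.conj h).toMonoidHom ≤ N := by
      rintro _ ⟨s, hs, rfl⟩
      refine ⟨?_, ?_⟩
      · have := hψS ⟨s, hs⟩
        rwa [hh] at this
      · show h * s * h⁻¹ ∈ Subgroup.normalizer (R : Set G)
        rw [Subgroup.mem_normalizer_iff]
        intro r
        show r ∈ R ↔ h * s * h⁻¹ * r * (h * s * h⁻¹)⁻¹ ∈ R
        have hconjR : ∀ r, r ∈ R ↔ h * r * h⁻¹ ∈ R := fun r => by
          refine ⟨fun hr => ?_, fun hr => ?_⟩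
          · rw [hagree r hr]; exact (Subgroup.mem_normalizer_iff.1 hgR r).1 hr
          · obtain ⟨r', hr', hrr⟩ : ∃ r' ∈ R, (g : G) * r' * (g : G)⁻¹ = h * r * h⁻¹ :=
              ⟨(g : G)⁻¹ * (h * r * h⁻¹) * g, by
                refine (Subgroup.mem_normalizer_iff.1 hgR _).2 ?_
                simpa [mul_assoc] using hr, by simp [mul_assoc]⟩
            rw [← hagree r' hr'] at hrr
            have : r' = r := mul_left_cancel (mul_right_cancel hrr)
            exact this ▸ hr'
        have e : h * s * h⁻¹ * r * (h * s * h⁻¹)⁻¹ = h * (s * (h⁻¹ * r * h) * s⁻¹) * h⁻¹ := by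
          simp [mul_assoc]
        rw [e, ← hconjR, ← Subgroup.mem_normalizer_iff.1 hs.2, hconjR (h⁻¹ * r * h)]
        simp [mul_assoc]
    have : Finite N := finite_of_le hNS
    have hhN : h ∈ Subgroup.normalizer (N : Set G) := by
      have heq : N.map (MulAut.conj h).toMonoidHom = N :=
        Subgroup.eq_of_le_of_card_ge hNmap
          (le_of_eq (Nat.card_congr (N.equivMapOfInjective _ (MulEquiv.injective _)).toEquiv))
      rw [Subgroup.mem_normalizer_iff]
      intro s
      refine ⟨fun hs => heq ▸ ⟨s, hs, rfl⟩, fun hs => ?_⟩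
      obtain ⟨s', hs', hss⟩ := heq.symm ▸ hs
      exact (mul_left_cancel (mul_right_cancel hss) : s' = s) ▸ hs'
    have ha : N.normalizerMonoidHom ⟨h, hhN⟩ ∈ E.autGroup N :=
      mem_autGroup_of_le_of_eq hNS hψNE fun s => (hh s).symm
    have hxN : h⁻¹ * (g : G) ∈ Subgroup.normalizer (N : Set G) :=
      Subgroup.mul_mem _ (Subgroup.inv_mem _ hhN) hgN
    obtain ⟨k, hk⟩ := exists_orderOf_normalizerMonoidHom hS hlt.le le_rfl
      (centralizerIn_le_of_centric hRc) ⟨_, hxN⟩ (fun r hr => by
        show h⁻¹ * (g : G) * r * (h⁻¹ * (g : G))⁻¹ = r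
        calc h⁻¹ * (g : G) * r * (h⁻¹ * (g : G))⁻¹ = h⁻¹ * ((g : G) * r * (g : G)⁻¹) * h := by
              simp [mul_assoc]
          _ = r := by rw [← hagree r hr]; simp [mul_assoc])
    have hb : N.normalizerMonoidHom ⟨_, hxN⟩ ∈ E.autGroup N :=
      mem_autGroup_of_pow hF hE hNS (normalizerMonoidHom_mem_autGroup hNS _) hk
    have hmul := Subgroup.mul_mem _ ha hb
    rw [← map_mul] at hmul
    have e : (⟨h, hhN⟩ : Subgroup.normalizer (N : Set G)) * ⟨_, hxN⟩ = ⟨g, hgN⟩ :=
      Subtype.ext (by simp)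
    rw [e] at hmul
    have hNc : (groupFusionSystem S).IsCentric N := isCentric_of_le hRc hlt.le hNS
    have : Finite R := finite_of_le hRS
    have hcard : Nat.card R < Nat.card N := by
      by_contra hcon
      exact hlt.ne (Subgroup.eq_of_le_of_card_ge hlt.le (not_lt.1 hcon))
    have hcard' : Nat.card N ≤ Nat.card S := Subgroup.card_le_of_le hNS
    exact ih _ (by omega) N hNc hgN hmul rfl

/-- The automorphisms of `S` induced by `p`-generated parts of normalizers of centric subgroups. -/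
def residualAuts (p : ℕ) (S : Subgroup G) : Set (MulAut S) :=
  {α | ∃ (R : Subgroup G) (g : G), (groupFusionSystem S).IsCentric R ∧
    g ∈ Subgroup.closure {y : G | y ∈ Subgroup.normalizer (R : Set G) ∧ ∃ k : ℕ, orderOf y = p ^ k} ∧
    ∀ x : S, ((α x : S) : G) = g * x * g⁻¹}

/-- Every element of `residualAuts` lies in every invariant subsystem on `S`. -/
theorem residualAuts_mem [Finite S] [Fact p.Prime] (hS : IsPGroup p S)
    (hF : (groupFusionSystem S).IsSaturated p) {E : FusionSystem S}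
    (hE : E.IsInvariantIn (groupFusionSystem S))
    (hrec : ∀ R : Subgroup G, E.IsCentric R → E.IsReceptive R) {α : MulAut S}
    (hα : α ∈ residualAuts p S) : α ∈ E.autGroup S := by
  obtain ⟨R, g, hRc, hg, hαg⟩ := hα
  obtain ⟨hgR, hR⟩ := normalizerMonoidHom_closure_mem hF hE hRc.1 hg
  have hgS : g ∈ Subgroup.normalizer (S : Set G) := by
    have h : α ∈ autInducedBy (⊤ : Subgroup G) S :=
      Subgroup.subset_closure ⟨g, Subgroup.mem_top _, hαg⟩
    rw [Subgroup.mem_normalizer_iff]
    refine fun s => ⟨fun hs => hαg ⟨s, hs⟩ ▸ (α ⟨s, hs⟩).2, fun hs => ?_⟩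
    have h2 := hαg (α.symm ⟨_, hs⟩)
    rw [MulEquiv.apply_symm_apply] at h2
    exact (mul_left_cancel (mul_right_cancel h2) : s = _) ▸ (α.symm ⟨_, hs⟩).2
  have e : S.normalizerMonoidHom ⟨g, hgS⟩ = α :=
    MulEquiv.ext fun x => Subtype.ext (hαg x).symm
  exact e ▸ normalizerMonoidHom_self_mem hS hF hE hrec ⟨g, hgS⟩ R hRc hgR hR

/-- The simplicity criterion. -/
theorem isSimple_of_residualAuts [Finite S] [Fact p.Prime] (hS : IsPGroup p S) (hne : S ≠ ⊥)
    (hF : (groupFusionSystem S).IsSaturated p)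
    (hrec : ∀ E : FusionSystem S, E.IsSaturated p → ∀ R, E.IsCentric R → E.IsReceptive R)
    (ha : ∀ T : Subgroup G, (groupFusionSystem S).StronglyClosed T → T = ⊥ ∨ T = S)
    (hb : (groupFusionSystem S).autGroup S ≤ Subgroup.closure (residualAuts p S)) :
    (groupFusionSystem S).IsSimple p := by
  refine ⟨hF, hne, fun T E hE => ?_⟩
  obtain ⟨⟨hEsat, -, hinv⟩, -⟩ := hE
  rcases ha T hinv.2.1 with hT | rfl
  · exact Or.inl hT
  refine Or.inr ⟨rfl, hom_eq_of_autGroup_self_le hinv (hb.trans ((Subgroup.closure_le _).2 ?_))⟩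
  exact fun α hα => residualAuts_mem hS hF hinv (hrec E hEsat) hα

end CfsgLib.FusionSimple
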