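/-
The simplicity criterion for the fusion system of a finite group on a Sylow subgroup.
-/
import Cfsg.Agent.FusionSimple.Criterion
import Cfsg.Agent.Fusion.Realized

set_option autoImplicit false

namespace CfsgLib.FusionSimple

open Cfsg Cfsg.FusionSystem CfsgLib.Fusion

/-- Centric subgroups are receptive in a saturated system. -/
theorem receptive_of_centric {Ω : Type*} [Group Ω] {S : Subgroup Ω} [Finite S] {p : ℕ}
    [Fact p.Prime] (hS : IsPGroup p S) {E : FusionSystem S} (hE : E.IsSaturated p) {R : Subgroup Ω}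
    (hR : E.IsCentric R) : E.IsReceptive R := by
  refine receptive_of_fullyCentralized hS hE ⟨hR.1, fun Q hQ => ?_⟩
  haveI := finite_of_le (centralizerIn_le S R)
  obtain ⟨e, he⟩ := isConj_iff.1 hQ
  have hcomm : ∀ c ∈ centralizerIn S Q, ∀ y ∈ Q, y * c = c * y :=
    fun c hc => (mem_centralizerIn.1 hc).2
  refine Nat.card_le_card_of_injective (fun c : centralizerIn S Q =>
    (⟨e.symm ⟨c, hR.2 Q hQ c.2⟩, mem_centralizerIn.2 ⟨hR.1 (e.symm _).2, fun r hr => ?_⟩⟩ :
      centralizerIn S R)) ?_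
  · have h : e ⟨r, hr⟩ * ⟨c, hR.2 Q hQ c.2⟩ = ⟨c, hR.2 Q hQ c.2⟩ * e ⟨r, hr⟩ :=
      Subtype.ext (hcomm c c.2 _ (e ⟨r, hr⟩).2)
    have h2 := congrArg e.symm h
    rw [map_mul, map_mul, MulEquiv.symm_apply_apply] at h2
    exact congrArg Subtype.val h2
  · intro a b hab
    have h1 : e.symm ⟨a, hR.2 Q hQ a.2⟩ = e.symm ⟨b, hR.2 Q hQ b.2⟩ :=
      Subtype.ext (congrArg (fun z : centralizerIn S R => (z : Ω)) hab)
    exact Subtype.ext (congrArg (fun z : Q => (z : Ω)) (e.symm.injective h1))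

/-- The simplicity criterion for the fusion system of a group on a Sylow subgroup. -/
theorem isSimple_groupFusionSystem {G : Type*} [Group G] [Finite G] {p : ℕ} [Fact p.Prime]
    (S : Sylow p G) (hne : (S : Subgroup G) ≠ ⊥)
    (ha : ∀ T : Subgroup G, (groupFusionSystem (S : Subgroup G)).StronglyClosed T →
      T = ⊥ ∨ T = (S : Subgroup G))
    (hb : (groupFusionSystem (S : Subgroup G)).autGroup (S : Subgroup G) ≤
      Subgroup.closure (residualAuts p (S : Subgroup G))) :
    (groupFusionSystem (S : Subgroup G)).IsSimple p :=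
  isSimple_of_residualAuts S.isPGroup' hne (isSaturated_groupFusion S)
    (fun _ hE _ => receptive_of_centric S.isPGroup' hE) ha hb

/-- Inner automorphisms of `S` lie in `residualAuts`. -/
theorem inn_mem_residualAuts {G : Type*} [Group G] {p : ℕ} {S : Subgroup G} [Finite S]
    (hS : IsPGroup p S) [Fact p.Prime] {α : MulAut S} {g : G} (hg : g ∈ S)
    (h : ∀ x : S, (α x : G) = g * x * g⁻¹) : α ∈ residualAuts p S := by
  refine ⟨S, g, isCentric_self, Subgroup.subset_closure ⟨Subgroup.le_normalizer hg, ?_⟩, h⟩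
  obtain ⟨k, hk⟩ := hS ⟨g, hg⟩
  obtain ⟨j, -, hj⟩ := (Nat.dvd_prime_pow Fact.out).1
    (orderOf_dvd_of_pow_eq_one (congrArg Subtype.val hk : g ^ p ^ k = 1))
  exact ⟨j, hj⟩

/-- The simplicity criterion when `N_G(S)` induces only inner automorphisms of `S`. -/
theorem isSimple_groupFusionSystem_of_inner {G : Type*} [Group G] [Finite G] {p : ℕ}
    [Fact p.Prime] (S : Sylow p G) (hne : (S : Subgroup G) ≠ ⊥)
    (ha : ∀ T : Subgroup G, (groupFusionSystem (S : Subgroup G)).StronglyClosed T →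
      T = ⊥ ∨ T = (S : Subgroup G))
    (hb : ∀ g ∈ Subgroup.normalizer ((S : Subgroup G) : Set G), ∃ s ∈ (S : Subgroup G),
      ∀ x ∈ (S : Subgroup G), g * x * g⁻¹ = s * x * s⁻¹) :
    (groupFusionSystem (S : Subgroup G)).IsSimple p := by
  refine isSimple_groupFusionSystem S hne ha fun α hα => Subgroup.subset_closure ?_
  obtain ⟨g, rfl⟩ := exists_normalizer_of_mem_autGroup hα
  obtain ⟨s, hs, h⟩ := hb g g.2
  exact inn_mem_residualAuts S.isPGroup' hs fun x => h x x.2

end CfsgLib.FusionSimple
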