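/-
The simplicity criterion in elementwise form, checked on one chosen Sylow subgroup.
-/
import Cfsg.Agent.FusionSimple.Sylow

set_option autoImplicit false

namespace CfsgLib.FusionSimple

open Cfsg Cfsg.FusionSystem CfsgLib.Fusion

variable {G : Type*} [Group G]

/-- Elementwise strong closure of `T` in `U` with respect to conjugation by `G`. -/
def Closed (U T : Subgroup G) : Prop :=
  T ≤ U ∧ ∀ x ∈ T, ∀ h : G, h * x * h⁻¹ ∈ U → h * x * h⁻¹ ∈ T

/-- The elements of `N_G(U)` known to induce automorphisms contained in every invariant subsystem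
on `U`: elements of `U`, of its centralizer, and of the `p`-generated part of the normalizer of a
normal subgroup of `U` containing its centralizer. -/
def basicElts (p : ℕ) (U : Subgroup G) : Set G :=
  {g | g ∈ Subgroup.normalizer (U : Set G) ∧
    (g ∈ U ∨ g ∈ Subgroup.centralizer (U : Set G) ∨
      ∃ R : Subgroup G, R ≤ U ∧ U ≤ Subgroup.normalizer (R : Set G) ∧
        U ⊓ Subgroup.centralizer (R : Set G) ≤ R ∧
        g ∈ Subgroup.closure {y : G | y ∈ Subgroup.normalizer (R : Set G) ∧
          ∃ k : ℕ, orderOf y = p ^ k})}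

/-- Strong closure in the fusion system is elementwise strong closure. -/
theorem closed_of_stronglyClosed {S T : Subgroup G}
    (hT : (groupFusionSystem S).StronglyClosed T) : Closed S T := by
  refine ⟨hT.1, fun x hx h hS => ?_⟩
  have hle : Subgroup.zpowers x ≤ T := Subgroup.zpowers_le.2 hx
  have hmem : conjHom (Subgroup.zpowers x) h ∈ (groupFusionSystem S).Hom (Subgroup.zpowers x) := by
    refine ⟨hle.trans hT.1, ?_, h, fun y => rfl⟩
    rintro ⟨y, k, rfl⟩
    show h * x ^ k * h⁻¹ ∈ S
    rw [← conj_zpow]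
    exact S.zpow_mem hS k
  exact hT.2 _ hle _ hmem ⟨x, Subgroup.mem_zpowers x⟩

variable [Finite G] {p : ℕ} [Fact p.Prime]

/-- A normal subgroup of `S` containing its centralizer in `S` is centric. -/
theorem isCentric_of_normal (S : Sylow p G) {R : Subgroup G} (hR : R ≤ (S : Subgroup G))
    (hn : (S : Subgroup G) ≤ Subgroup.normalizer (R : Set G))
    (hc : (S : Subgroup G) ⊓ Subgroup.centralizer (R : Set G) ≤ R) :
    (groupFusionSystem (S : Subgroup G)).IsCentric R := by
  have hN : normalizerIn (S : Subgroup G) R = (S : Subgroup G) :=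
    le_antisymm (normalizerIn_le _ _) (le_inf le_rfl hn)
  have hfn : (groupFusionSystem (S : Subgroup G)).IsFullyNormalized R :=
    ⟨hR, fun Q _ => by rw [hN]; exact Subgroup.card_le_of_le (normalizerIn_le _ _)⟩
  exact isCentric_of_fullyCentralized S.isPGroup' (isSaturated_groupFusion S)
    (fullyCentralized_of_normalized S.isPGroup' (isSaturated_groupFusion S) hfn) hc

/-- The criterion for one Sylow subgroup. -/
theorem isSimple_of_closed_of_basicElts (S : Sylow p G) (hne : (S : Subgroup G) ≠ ⊥)
    (ha : ∀ T : Subgroup G, Closed (S : Subgroup G) T → T = ⊥ ∨ T = (S : Subgroup G))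
    (hb : Subgroup.normalizer ((S : Subgroup G) : Set G) ≤
      Subgroup.closure (basicElts p (S : Subgroup G))) :
    (groupFusionSystem (S : Subgroup G)).IsSimple p := by
  refine isSimple_groupFusionSystem S hne (fun T hT => ha T (closed_of_stronglyClosed hT))
    fun α hα => ?_
  obtain ⟨g, rfl⟩ := exists_normalizer_of_mem_autGroup hα
  have hle : Subgroup.closure (basicElts p (S : Subgroup G)) ≤
      ((Subgroup.closure (residualAuts p (S : Subgroup G))).comap
        (S : Subgroup G).normalizerMonoidHom).map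
        (Subgroup.normalizer ((S : Subgroup G) : Set G)).subtype := by
    rw [Subgroup.closure_le]
    rintro y ⟨hy, hcases⟩
    refine ⟨⟨y, hy⟩, ?_, rfl⟩
    rcases hcases with h | h | ⟨R, hR, hn, hc, h⟩
    · exact Subgroup.subset_closure (inn_mem_residualAuts S.isPGroup' h fun _ => rfl)
    · have : (S : Subgroup G).normalizerMonoidHom ⟨y, hy⟩ = 1 := by
        refine MulEquiv.ext fun x => Subtype.ext ?_
        show y * (x : G) * y⁻¹ = x
        rw [← Subgroup.mem_centralizer_iff.1 h x x.2, mul_inv_cancel_right]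
      rw [SetLike.mem_coe, Subgroup.mem_comap, this]
      exact one_mem _
    · exact Subgroup.subset_closure ⟨R, y, isCentric_of_normal S hR hn hc, h, fun _ => rfl⟩
  obtain ⟨g', hg', hgg'⟩ := hle (hb g.2)
  have : g' = g := Subtype.ext hgg'
  exact this ▸ hg'

section transport

variable {G' : Type*} [Group G']

omit [Finite G] in
theorem mem_normalizer_map_equiv (e : G ≃* G') {U : Subgroup G} {g : G}
    (hg : g ∈ Subgroup.normalizer (U : Set G)) :
    e g ∈ Subgroup.normalizer ((U.map e.toMonoidHom : Subgroup G') : Set G') := by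
  rw [Subgroup.mem_normalizer_iff]
  intro y
  obtain ⟨x, rfl⟩ := e.surjective y
  rw [← map_inv, ← map_mul, ← map_mul]
  exact ((Subgroup.mem_map_iff_mem e.injective).trans
    (Subgroup.mem_normalizer_iff.1 hg x)).trans (Subgroup.mem_map_iff_mem e.injective).symm

omit [Finite G] in
theorem mem_centralizer_map_equiv (e : G ≃* G') {U : Subgroup G} {g : G}
    (hg : g ∈ Subgroup.centralizer (U : Set G)) :
    e g ∈ Subgroup.centralizer ((U.map e.toMonoidHom : Subgroup G') : Set G') := by
  rw [Subgroup.mem_centralizer_iff]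
  rintro _ ⟨x, hx, rfl⟩
  show e x * e g = e g * e x
  rw [← map_mul, ← map_mul, Subgroup.mem_centralizer_iff.1 hg x hx]

omit [Finite G] [Fact p.Prime] in
theorem basicElts_map (e : G ≃* G') {U : Subgroup G} {g : G} (hg : g ∈ basicElts p U) :
    e g ∈ basicElts p (U.map e.toMonoidHom) := by
  obtain ⟨hn, h | h | ⟨R, hR, hRn, hRc, h⟩⟩ := hg
  · exact ⟨mem_normalizer_map_equiv e hn, Or.inl ⟨g, h, rfl⟩⟩
  · exact ⟨mem_normalizer_map_equiv e hn, Or.inr (Or.inl (mem_centralizer_map_equiv e h))⟩
  refine ⟨mem_normalizer_map_equiv e hn, Or.inr (Or.inr ⟨R.map e.toMonoidHom,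
    Subgroup.map_mono hR, ?_, ?_, ?_⟩)⟩
  · rintro _ ⟨x, hx, rfl⟩
    exact mem_normalizer_map_equiv e (hRn hx)
  · rintro _ ⟨⟨x, hx, rfl⟩, hxc⟩
    refine ⟨x, hRc ⟨hx, Subgroup.mem_centralizer_iff.2 fun r hr => e.injective ?_⟩, rfl⟩
    rw [map_mul, map_mul]
    exact Subgroup.mem_centralizer_iff.1 hxc (e r) ⟨r, hr, rfl⟩
  · have := Subgroup.mem_map_of_mem e.toMonoidHom h
    rw [MonoidHom.map_closure] at this
    refine Subgroup.closure_mono ?_ this
    rintro _ ⟨y, ⟨hy, k, hk⟩, rfl⟩
    exact ⟨mem_normalizer_map_equiv e hy, k, by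
      rw [← hk]; exact MulEquiv.orderOf_eq e y⟩

omit [Finite G] in
theorem closed_comap (e : G ≃* G') {U : Subgroup G} {T : Subgroup G'}
    (h : Closed (U.map e.toMonoidHom) T) : Closed U (T.comap e.toMonoidHom) := by
  refine ⟨fun x hx => (Subgroup.mem_map_iff_mem e.injective).1 (h.1 hx), fun x hx k hk => ?_⟩
  have h' := h.2 (e x) hx (e k)
  rw [← map_inv, ← map_mul, ← map_mul] at h'
  exact h' ⟨_, hk, rfl⟩

end transport

/-- The criterion, checked on any one Sylow subgroup `U`. -/
theorem isSimple_of_one_sylow (U : Sylow p G) (hne : (U : Subgroup G) ≠ ⊥)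
    (ha : ∀ T : Subgroup G, Closed (U : Subgroup G) T → T = ⊥ ∨ T = (U : Subgroup G))
    (hb : Subgroup.normalizer ((U : Subgroup G) : Set G) ≤
      Subgroup.closure (basicElts p (U : Subgroup G))) (S : Sylow p G) :
    (groupFusionSystem (S : Subgroup G)).IsSimple p := by
  obtain ⟨a, ha'⟩ := MulAction.exists_smul_eq G U S
  set e : G ≃* G := MulAut.conj a with he
  have hS : (S : Subgroup G) = (U : Subgroup G).map e.toMonoidHom := by
    rw [← ha', Sylow.coe_subgroup_smul]
    rfl
  refine isSimple_of_closed_of_basicElts S ?_ ?_ ?_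
  · rw [hS]
    intro h
    exact hne (eq_bot_iff.2 fun x hx => e.injective (by
      rw [map_one]; exact Subgroup.mem_bot.1 (h ▸ ⟨x, hx, rfl⟩ : e x ∈ (⊥ : Subgroup G))))
  · intro T hT
    rw [hS] at hT ⊢
    have hmap : (T.comap e.toMonoidHom).map e.toMonoidHom = T :=
      Subgroup.map_comap_eq_self_of_surjective e.surjective T
    rcases ha _ (closed_comap e hT) with h | h
    · left; rw [← hmap, h, Subgroup.map_bot]
    · right; rw [← hmap, h]
  · intro g hg
    have hg' : e.symm g ∈ Subgroup.normalizer ((U : Subgroup G) : Set G) := by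
      have h := mem_normalizer_map_equiv e.symm hg
      have hU : (S : Subgroup G).map e.symm.toMonoidHom = (U : Subgroup G) := by
        rw [hS]
        ext x
        constructor
        · rintro ⟨_, ⟨y, hy, rfl⟩, rfl⟩
          have hyy : e.symm (e y) = y := e.symm_apply_apply y
          exact (hyy.symm ▸ hy : e.symm (e y) ∈ (U : Subgroup G))
        · intro hx
          exact ⟨e x, ⟨x, hx, rfl⟩, by simp⟩
      rwa [hU] at h
    have := Subgroup.mem_map_of_mem e.toMonoidHom (hb hg')
    rw [MonoidHom.map_closure] at this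
    have h2 : (Subgroup.closure (basicElts p (S : Subgroup G)) : Subgroup G) ≥
        Subgroup.closure (e.toMonoidHom '' basicElts p (U : Subgroup G)) := by
      refine Subgroup.closure_mono ?_
      rintro _ ⟨y, hy, rfl⟩
      rw [hS]
      exact basicElts_map e hy
    have h3 := h2 this
    simpa using h3

end CfsgLib.FusionSimple
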