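/-
A nontrivial subgroup normalized by a finite `p`-group containing it meets the centre of the latter.
-/
import Cfsg.Agent.FusionSimple.Generic
import Mathlib.GroupTheory.Nilpotent

set_option autoImplicit false

namespace CfsgLib.FusionSimple

open Cfsg
open scoped commutatorElement

variable {G : Type*} [Group G]

/-- A nontrivial subgroup `T` of a finite `p`-group `U`, closed in `U`, contains a nontrivial element
centralizing `U`. -/
theorem exists_central_of_closed {p : ℕ} [Fact p.Prime] {U T : Subgroup G} [Finite U]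
    (hU : IsPGroup p U) (hT : Closed U T) (hne : T ≠ ⊥) :
    ∃ z ∈ T, z ≠ 1 ∧ ∀ u ∈ U, u * z = z * u := by
  obtain ⟨⟨t, ht⟩, ht1⟩ := Subgroup.ne_bot_iff_exists_ne_one.1 hne
  haveI : Group.IsNilpotent U := hU.isNilpotent
  obtain ⟨n, hn⟩ : ∃ n, Subgroup.upperCentralSeries U n = ⊤ :=
    Group.IsNilpotent.nilpotent U
  classical
  have hex : ∃ m, ∃ x : U, (x : G) ∈ T ∧ x ≠ 1 ∧ x ∈ Subgroup.upperCentralSeries U m :=
    ⟨n, ⟨t, hT.1 ht⟩, ht,
      fun h => ht1 (Subtype.ext (congrArg (fun z : U => (z : G)) h)), hn ▸ Subgroup.mem_top _⟩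
  obtain ⟨x, hxT, hx1, hxm⟩ := Nat.find_spec hex
  rcases h0 : Nat.find hex with _ | m
  · rw [h0, Subgroup.upperCentralSeries_zero, Subgroup.mem_bot] at hxm
    exact absurd hxm hx1
  rw [h0] at hxm
  refine ⟨x, hxT, fun h => hx1 (Subtype.ext h), fun u hu => ?_⟩
  have hcomm : ⁅x, (⟨u, hu⟩ : U)⁆ = 1 := by
    by_contra hc
    refine Nat.find_min hex (show m < Nat.find hex by omega)
      ⟨⁅x, (⟨u, hu⟩ : U)⁆, ?_, hc, Subgroup.mem_upperCentralSeries_succ_iff.1 hxm ⟨u, hu⟩⟩
    show (x : G) * u * (x : G)⁻¹ * u⁻¹ ∈ T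
    have h1 : u * (x : G)⁻¹ * u⁻¹ ∈ T := by
      refine hT.2 _ (T.inv_mem hxT) u ?_
      exact U.mul_mem (U.mul_mem hu (U.inv_mem x.2)) (U.inv_mem hu)
    have h2 := T.mul_mem hxT h1
    simpa [mul_assoc] using h2
  have h := commutatorElement_eq_one_iff_mul_comm.1 hcomm
  exact (congrArg (fun z : U => (z : G)) h).symm

/-- A closed subgroup contains every conjugate in `U` of each of its elements; if these generate
`U` it is everything. -/
theorem eq_of_closed_of_generated {U T : Subgroup G} (hT : Closed U T) {Γ : Set G}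
    (hΓ : U ≤ Subgroup.closure Γ) (hΓU : ∀ y ∈ Γ, y ∈ U) {z : G} (hz : z ∈ T)
    (hc : ∀ y ∈ Γ, ∃ h : G, h * z * h⁻¹ = y) : T = U := by
  refine le_antisymm hT.1 (hΓ.trans ((Subgroup.closure_le _).2 fun y hy => ?_))
  obtain ⟨h, rfl⟩ := hc y hy
  exact hT.2 z hz h (hΓU _ hy)

end CfsgLib.FusionSimple
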