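/-
The simplicity criterion for a quotient by a centre of order prime to `p`, checked upstairs.
-/
import Cfsg.Agent.FusionSimple.Generic

set_option autoImplicit false

namespace CfsgLib.FusionSimple

open Cfsg

variable {G : Type*} [Group G] [Finite G] {p : ℕ} [hp : Fact p.Prime]

omit [Finite G] hp in
theorem eq_one_of_central_of_mem {U : Subgroup G} (hU : IsPGroup p U)
    (hZ : ∀ z ∈ Subgroup.center G, (∃ k : ℕ, z ^ p ^ k = 1) → z = 1) {z : G}
    (hz : z ∈ Subgroup.center G) (hzU : z ∈ U) : z = 1 := by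
  obtain ⟨k, hk⟩ := hU ⟨z, hzU⟩
  exact hZ z hz ⟨k, congrArg Subtype.val hk⟩

/-- The criterion for `G ⧸ Z(G)`. -/
theorem isSimple_quotient_center (U : Sylow p G) (hne : (U : Subgroup G) ≠ ⊥)
    (hZ : ∀ z ∈ Subgroup.center G, (∃ k : ℕ, z ^ p ^ k = 1) → z = 1)
    (ha : ∀ T : Subgroup G, Closed (U : Subgroup G) T → T = ⊥ ∨ T = (U : Subgroup G))
    (hb : Subgroup.normalizer ((U : Subgroup G) : Set G) ≤
      Subgroup.closure (basicElts p (U : Subgroup G)))
    (S : Sylow p (G ⧸ Subgroup.center G)) :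
    (groupFusionSystem (S : Subgroup (G ⧸ Subgroup.center G))).IsSimple p := by
  set π := QuotientGroup.mk' (Subgroup.center G) with hπdef
  have hπ : Function.Surjective π := QuotientGroup.mk'_surjective _
  set U' := U.mapSurjective hπ
  have hU' : (U' : Subgroup (G ⧸ Subgroup.center G)) = (U : Subgroup G).map π := rfl
  have hinj : ∀ {u v : G}, u ∈ (U : Subgroup G) → v ∈ (U : Subgroup G) → π u = π v → u = v := by
    intro u v hu hv h
    exact inv_mul_eq_one.1 (eq_one_of_central_of_mem U.isPGroup' hZ (QuotientGroup.eq.1 h)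
      (mul_mem (inv_mem hu) hv))
  refine isSimple_of_one_sylow U' ?_ ?_ ?_ S
  · rw [hU']
    intro h
    obtain ⟨⟨u, hu⟩, hu1⟩ := Subgroup.ne_bot_iff_exists_ne_one.1 hne
    refine hu1 (Subtype.ext (hinj hu (one_mem _) ?_))
    show π u = π 1
    rw [map_one]
    exact Subgroup.mem_bot.1 (h ▸ ⟨u, hu, rfl⟩ : π u ∈ (⊥ : Subgroup (G ⧸ Subgroup.center G)))
  · intro T hT
    rw [hU'] at hT ⊢
    have hcl : Closed (U : Subgroup G) ((U : Subgroup G) ⊓ T.comap π) := by
      refine ⟨inf_le_left, fun x hx h hh => ⟨hh, ?_⟩⟩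
      show π (h * x * h⁻¹) ∈ T
      rw [map_mul, map_mul, map_inv]
      exact hT.2 _ hx.2 _ ⟨_, hh, by rw [map_mul, map_mul, map_inv]⟩
    rcases ha _ hcl with h | h
    · left
      refine eq_bot_iff.2 fun y hy => ?_
      obtain ⟨u, hu, rfl⟩ := hT.1 hy
      have : u = 1 := Subgroup.mem_bot.1 (h ▸ (⟨hu, hy⟩ : u ∈ (U : Subgroup G) ⊓ T.comap π))
      rw [Subgroup.mem_bot, this, map_one]
    · right
      refine le_antisymm hT.1 ?_
      rintro _ ⟨u, hu, rfl⟩
      exact (h.ge hu).2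
  · intro y hy
    obtain ⟨g, rfl⟩ := hπ y
    rw [hU'] at hy ⊢
    have key : ∀ g : G, π g ∈ Subgroup.normalizer (((U : Subgroup G).map π) : Set _) →
        ∀ u ∈ (U : Subgroup G), g * u * g⁻¹ ∈ (U : Subgroup G) := by
      intro g hg u hu
      obtain ⟨v, hv, hve⟩ := (Subgroup.mem_normalizer_iff.1 hg _).1 ⟨u, hu, rfl⟩
      rw [← map_inv, ← map_mul, ← map_mul] at hve
      have hz := QuotientGroup.eq.1 hve
      obtain ⟨k, hk⟩ := U.isPGroup' ⟨u, hu⟩
      obtain ⟨l, hl⟩ := U.isPGroup' ⟨v, hv⟩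
      have hk' : u ^ p ^ k = 1 := congrArg Subtype.val hk
      have hl' : v ^ p ^ l = 1 := congrArg Subtype.val hl
      have hc : Commute v⁻¹ (v⁻¹ * (g * u * g⁻¹)) := Subgroup.mem_center_iff.1 hz v⁻¹
      have h1 : g * u * g⁻¹ = v := by
        refine (inv_mul_eq_one.1 (hZ _ hz ⟨k + l, ?_⟩)).symm
        have e : g * u * g⁻¹ = v * (v⁻¹ * (g * u * g⁻¹)) := by group
        have h2 : (g * u * g⁻¹) ^ p ^ (k + l) = 1 := by
          rw [conj_pow, pow_add, pow_mul, hk', one_pow, mul_one, mul_inv_cancel]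
        have h3 : v ^ p ^ (k + l) = 1 := by rw [add_comm, pow_add, pow_mul, hl', one_pow]
        have hc' : Commute v (v⁻¹ * (g * u * g⁻¹)) := by
          simpa using hc.inv_left
        rw [e, hc'.mul_pow, h3, one_mul] at h2
        exact h2
      rw [h1]
      exact hv
    have hgN : g ∈ Subgroup.normalizer ((U : Subgroup G) : Set G) := by
      rw [Subgroup.mem_normalizer_iff]
      refine fun u => ⟨key g hy u, fun h => ?_⟩
      have h1 := key g⁻¹ (by rw [map_inv]; exact inv_mem hy) _ h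
      simpa [mul_assoc] using h1
    have h2 := Subgroup.mem_map_of_mem π (hb hgN)
    rw [MonoidHom.map_closure] at h2
    refine Subgroup.closure_mono ?_ h2
    rintro _ ⟨x, ⟨hxN, hx⟩, rfl⟩
    refine ⟨Subgroup.le_normalizer_map π ⟨x, hxN, rfl⟩, ?_⟩
    rcases hx with h | h | ⟨R, hR, hRn, hRc, h⟩
    · exact Or.inl ⟨x, h, rfl⟩
    · refine Or.inr (Or.inl (Subgroup.mem_centralizer_iff.2 ?_))
      rintro _ ⟨u, hu, rfl⟩
      rw [← map_mul, ← map_mul, Subgroup.mem_centralizer_iff.1 h u hu]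
    refine Or.inr (Or.inr ⟨R.map π, Subgroup.map_mono hR, ?_, ?_, ?_⟩)
    · rintro _ ⟨u, hu, rfl⟩
      exact Subgroup.le_normalizer_map π ⟨u, hRn hu, rfl⟩
    · rintro _ ⟨⟨u, hu, rfl⟩, hc⟩
      refine ⟨u, hRc ⟨hu, Subgroup.mem_centralizer_iff.2 fun r hr => ?_⟩, rfl⟩
      exact hinj (mul_mem (hR hr) hu) (mul_mem hu (hR hr)) (by
        rw [map_mul, map_mul]
        exact Subgroup.mem_centralizer_iff.1 hc _ ⟨r, hr, rfl⟩)
    · have h3 := Subgroup.mem_map_of_mem π h
      rw [MonoidHom.map_closure] at h3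
      refine Subgroup.closure_mono ?_ h3
      rintro _ ⟨r, ⟨hr, k, hk⟩, rfl⟩
      refine ⟨Subgroup.le_normalizer_map π ⟨r, hr, rfl⟩, ?_⟩
      obtain ⟨j, -, hj⟩ := (Nat.dvd_prime_pow hp.out).1
        (hk ▸ orderOf_map_dvd π r : orderOf (π r) ∣ p ^ k)
      exact ⟨j, hj⟩

end CfsgLib.FusionSimple
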