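/-
Upper unitriangular matrices in `SL_n` over a finite field: a `p`-group whose normalizer consists
of upper triangular matrices; its centre; generation by transvections; conjugacy of transvections.
-/
import Cfsg.Agent.Linear.Perfect

set_option autoImplicit false

namespace CfsgLib.FusionSimple.UpperSL

open Matrix
open scoped MatrixGroups

variable {n : ℕ} {K : Type*} [Field K]

local notation "SLn" => Matrix.SpecialLinearGroup (Fin n) K

/-- Upper unitriangular matrices. -/
def IsUni (M : Matrix (Fin n) (Fin n) K) : Prop :=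
  ∀ i j : Fin n, j ≤ i → M i j = (1 : Matrix (Fin n) (Fin n) K) i j

/-- Upper triangular matrices. -/
def IsUpper (M : Matrix (Fin n) (Fin n) K) : Prop := ∀ i j : Fin n, j < i → M i j = 0

theorem IsUni.isUpper {M : Matrix (Fin n) (Fin n) K} (h : IsUni M) : IsUpper M :=
  fun i j hji => (h i j hji.le).trans (Matrix.one_apply_ne hji.ne')

theorem IsUni.apply_self {M : Matrix (Fin n) (Fin n) K} (h : IsUni M) (i : Fin n) : M i i = 1 :=
  (h i i le_rfl).trans (Matrix.one_apply_eq i)

theorem isUni_of_isUpper {M : Matrix (Fin n) (Fin n) K} (h : IsUpper M) (hd : ∀ i, M i i = 1) :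
    IsUni M := fun i j hji => by
  rcases hji.lt_or_eq with hlt | rfl
  · rw [h i j hlt, Matrix.one_apply_ne hlt.ne']
  · rw [hd, Matrix.one_apply_eq]

theorem mul_apply_diag {M N : Matrix (Fin n) (Fin n) K} (hM : IsUpper M) (hN : IsUpper N)
    (i : Fin n) : (M * N) i i = M i i * N i i := by
  rw [Matrix.mul_apply]
  refine Finset.sum_eq_single i (fun k _ hk => ?_) (by simp)
  rcases lt_or_gt_of_ne hk with h | h
  · rw [hM i k h, zero_mul]
  · rw [hN k i h, mul_zero]

theorem IsUpper.mul {M N : Matrix (Fin n) (Fin n) K} (hM : IsUpper M) (hN : IsUpper N) :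
    IsUpper (M * N) := by
  intro i j hji
  rw [Matrix.mul_apply]
  refine Finset.sum_eq_zero fun k _ => ?_
  rcases lt_or_ge k i with h | h
  · rw [hM i k h, zero_mul]
  · rw [hN k j (lt_of_lt_of_le hji h), mul_zero]

theorem IsUni.mul {M N : Matrix (Fin n) (Fin n) K} (hM : IsUni M) (hN : IsUni N) :
    IsUni (M * N) :=
  isUni_of_isUpper (hM.isUpper.mul hN.isUpper) fun i => by
    rw [mul_apply_diag hM.isUpper hN.isUpper, hM.apply_self, hN.apply_self, one_mul]

theorem isUpper_one : IsUpper (1 : Matrix (Fin n) (Fin n) K) :=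
  fun _ _ h => Matrix.one_apply_ne h.ne'

theorem IsUpper.pow {M : Matrix (Fin n) (Fin n) K} (hM : IsUpper M) (k : ℕ) :
    IsUpper (M ^ k) ∧ ∀ i, (M ^ k) i i = M i i ^ k := by
  induction k with
  | zero => exact ⟨by simpa using isUpper_one, fun i => by simp⟩
  | succ k ih =>
    refine ⟨by rw [pow_succ]; exact ih.1.mul hM, fun i => ?_⟩
    rw [pow_succ, mul_apply_diag ih.1 hM, ih.2, pow_succ]

variable (n K)

/-- The upper unitriangular subgroup of `SL_n`. -/
def upperUnip [Finite K] : Subgroup (Matrix.SpecialLinearGroup (Fin n) K) where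
  carrier := {g | IsUni g.1}
  one_mem' := fun _ _ _ => by rw [Matrix.SpecialLinearGroup.coe_one]
  mul_mem' {a b} ha hb := by
    show IsUni (a * b).1
    rw [Matrix.SpecialLinearGroup.coe_mul]
    exact ha.mul hb
  inv_mem' {a} ha := by
    have hpow : ∀ k : ℕ, IsUni (a ^ k).1 := fun k => by
      induction k with
      | zero => intro i j _; simp
      | succ k ih =>
        rw [pow_succ, Matrix.SpecialLinearGroup.coe_mul]
        exact ih.mul ha
    have h1 : a⁻¹ = a ^ (orderOf a - 1) := by
      refine inv_eq_of_mul_eq_one_right ?_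
      rw [← pow_succ', Nat.sub_add_cancel (orderOf_pos a), pow_orderOf_eq_one]
    show IsUni (a⁻¹).1
    rw [h1]
    exact hpow _

variable {n K}

theorem mem_upperUnip [Finite K] {g : SLn} : g ∈ upperUnip n K ↔ IsUni g.1 := Iff.rfl

theorem transvection_apply {i j : Fin n} (hij : i ≠ j) (c : K) (r t : Fin n) :
    (Matrix.SpecialLinearGroup.transvection hij c).1 r t =
      (if r = t then 1 else 0) + if r = i ∧ t = j then c else 0 := by
  rw [Matrix.SpecialLinearGroup.transvection_coe, Matrix.add_apply, Matrix.one_apply]
  congr 1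
  rw [Matrix.single_apply]
  by_cases h : r = i ∧ t = j
  · rw [if_pos ⟨h.1.symm, h.2.symm⟩, if_pos h]
  · rw [if_neg fun h' => h ⟨h'.1.symm, h'.2.symm⟩, if_neg h]

theorem isUni_transvection {i j : Fin n} (hij : i < j) (c : K) :
    IsUni (Matrix.SpecialLinearGroup.transvection hij.ne c).1 := by
  intro r t htr
  rw [transvection_apply, Matrix.one_apply, if_neg fun h : r = i ∧ t = j => ?_, add_zero]
  exact absurd (h.1 ▸ h.2 ▸ htr : j ≤ i) hij.not_ge

theorem mul_transvection_apply (M : Matrix (Fin n) (Fin n) K) {i j : Fin n} (hij : i ≠ j) (c : K)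
    (r t : Fin n) :
    (M * (Matrix.SpecialLinearGroup.transvection hij c).1) r t =
      M r t + if t = j then c * M r i else 0 := by
  rw [Matrix.mul_apply]
  simp only [transvection_apply, mul_add, Finset.sum_add_distrib]
  congr 1
  · simp
  · by_cases ht : t = j
    · simp [ht, mul_comm]
    · simp [ht]

theorem transvection_mul_apply (M : Matrix (Fin n) (Fin n) K) {i j : Fin n} (hij : i ≠ j) (c : K)
    (r t : Fin n) :
    ((Matrix.SpecialLinearGroup.transvection hij c).1 * M) r t =
      M r t + if r = i then c * M j t else 0 := by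
  rw [Matrix.mul_apply]
  simp only [transvection_apply, add_mul, Finset.sum_add_distrib]
  congr 1
  · simp
  · by_cases ht : r = i
    · simp [ht]
    · simp [ht]

/-- An element conjugating every simple upper transvection into a unitriangular matrix is upper
triangular. -/
theorem isUpper_of_conj {g : SLn}
    (h : ∀ (i j : Fin n) (hij : i < j), i.val + 1 = j.val →
      IsUni (g * Matrix.SpecialLinearGroup.transvection hij.ne 1 * g⁻¹).1) :
    IsUpper g.1 := by
  suffices H : ∀ m : ℕ, ∀ r i : Fin n, n - r.val ≤ m → i < r → g.1 r i = 0 from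
    fun r i hir => H n r i (Nat.sub_le _ _) hir
  intro m
  induction m with
  | zero => intro r i hr _; have := r.isLt; omega
  | succ m ih =>
    intro r i hr hir
    have hj : i.val + 1 < n := by have := r.isLt; omega
    set j : Fin n := ⟨i.val + 1, hj⟩ with hjdef
    have hij : i < j := by show i.val < i.val + 1; omega
    set T := Matrix.SpecialLinearGroup.transvection hij.ne (1 : K) with hT
    have hN := h i j hij rfl
    have heq : (g * T).1 r j = ((g * T * g⁻¹) * g).1 r j := by rw [inv_mul_cancel_right]
    rw [Matrix.SpecialLinearGroup.coe_mul, Matrix.SpecialLinearGroup.coe_mul,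
      mul_transvection_apply, if_pos rfl, one_mul] at heq
    rw [Matrix.mul_apply, Finset.sum_eq_single r (fun k _ hk => ?_) (by simp), hN.apply_self,
      one_mul] at heq
    · exact add_eq_left.mp heq
    · rcases lt_or_gt_of_ne hk with h1 | h1
      · rw [hN.isUpper r k h1, zero_mul]
      · have hjk : j < k := by
          show i.val + 1 < k.val
          have : i.val < r.val := hir
          have : r.val < k.val := h1
          omega
        rw [ih k j (by have : r.val < k.val := h1; have := k.isLt; omega) hjk, mul_zero]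

section charP

variable [Finite K] (p : ℕ) [hp : Fact p.Prime] [CharP K p]

omit [Finite K] in
theorem eq_one_of_pow_eq_one {r : K} {k : ℕ} (h : r ^ p ^ k = 1) : r = 1 := by
  have h1 : (r - 1) ^ p ^ k = 0 := by rw [sub_pow_char_pow, h, one_pow, sub_self]
  exact sub_eq_zero.1 (pow_eq_zero_iff (pow_ne_zero _ hp.out.ne_zero) |>.1 h1)

omit [Finite K] in
/-- A central element of `p`-power order is trivial. -/
theorem eq_one_of_mem_center {z : SLn} (hz : z ∈ Subgroup.center SLn) {k : ℕ}
    (hk : z ^ p ^ k = 1) : z = 1 := by
  obtain ⟨r, -, hr⟩ := Matrix.SpecialLinearGroup.mem_center_iff.1 hz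
  apply Subtype.ext
  rcases Nat.eq_zero_or_pos n with hn | hn
  · subst hn
    exact Subsingleton.elim _ _
  have h1 : ((scalar (Fin n) r : Matrix (Fin n) (Fin n) K)) ^ p ^ k = 1 := by
    rw [hr, ← Matrix.SpecialLinearGroup.coe_pow, hk, Matrix.SpecialLinearGroup.coe_one]
  rw [← map_pow] at h1
  have h2 := congrFun (congrFun h1 ⟨0, hn⟩) ⟨0, hn⟩
  simp only [scalar_apply, diagonal_apply_eq, Matrix.one_apply_eq] at h2
  rw [← hr, eq_one_of_pow_eq_one p h2, map_one, Matrix.SpecialLinearGroup.coe_one]

/-- Unitriangular matrices have `p`-power order. -/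
theorem pow_eq_one_of_isUni {g : SLn} (hg : IsUni g.1) : g ^ p ^ n = 1 := by
  rcases Nat.eq_zero_or_pos n with hn | hn
  · subst hn
    exact Subsingleton.elim _ _
  haveI : Nonempty (Fin n) := ⟨⟨0, hn⟩⟩
  set N := g.1 - 1 with hNdef
  have hN : ∀ k : ℕ, ∀ i j : Fin n, j.val < i.val + k → (N ^ k) i j = 0 := by
    intro k
    induction k with
    | zero =>
      intro i j h
      rw [pow_zero, Matrix.one_apply_ne]
      intro e
      subst e
      omega
    | succ k ih =>
      intro i j h
      rw [pow_succ, Matrix.mul_apply]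
      refine Finset.sum_eq_zero fun t _ => ?_
      rcases lt_or_ge t.val (i.val + k) with h1 | h1
      · rw [ih i t h1, zero_mul]
      · have : j ≤ t := by show j.val ≤ t.val; omega
        rw [hNdef, Matrix.sub_apply, hg t j this, sub_self, mul_zero]
  apply Subtype.ext
  rw [Matrix.SpecialLinearGroup.coe_pow, Matrix.SpecialLinearGroup.coe_one]
  have h0 : N ^ p ^ n = 0 := by
    ext i j
    refine hN _ i j ?_
    have := Nat.lt_pow_self hp.out.one_lt (n := n)
    have := j.isLt
    omega
  have e : g.1 = 1 + N := by rw [hNdef, add_sub_cancel]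
  rw [e, add_pow_char_pow_of_commute p n (Commute.one_left N), one_pow, h0, add_zero]

theorem isPGroup_upperUnip : IsPGroup p (upperUnip n K) :=
  fun g => ⟨n, Subtype.ext (pow_eq_one_of_isUni p g.2)⟩

omit [Finite K] in
/-- An upper triangular element some `p`-power of which is a scalar is scalar times unitriangular. -/
theorem exists_center_mul_of_pow_mem_center {g : SLn} (hg : IsUpper g.1) {k : ℕ}
    (hk : g ^ p ^ k ∈ Subgroup.center SLn) :
    ∃ z ∈ Subgroup.center SLn, IsUni (z * g).1 := by
  rcases Nat.eq_zero_or_pos n with hn | hn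
  · subst hn
    exact ⟨1, one_mem _, fun i => i.elim0⟩
  obtain ⟨r, -, hr⟩ := Matrix.SpecialLinearGroup.mem_center_iff.1 hk
  have hd : ∀ i, g.1 i i ^ p ^ k = r := fun i => by
    rw [← (hg.pow _).2 i, ← Matrix.SpecialLinearGroup.coe_pow, ← hr]
    simp
  set d := g.1 ⟨0, hn⟩ ⟨0, hn⟩ with hddef
  have hall : ∀ i, g.1 i i = d := fun i => by
    have h1 : (g.1 i i - d) ^ p ^ k = 0 := by rw [sub_pow_char_pow, hd, hd, sub_self]
    exact sub_eq_zero.1 (pow_eq_zero_iff (pow_ne_zero _ hp.out.ne_zero) |>.1 h1)
  have hdet : d ^ n = 1 := by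
    have h1 : g.1.det = 1 := g.2
    rw [Matrix.det_of_isUpperTriangular (fun i j h => hg i j h),
      Finset.prod_congr rfl (fun i _ => hall i)] at h1
    simpa using h1
  have hd0 : d ≠ 0 := by
    intro h0
    rw [h0, zero_pow hn.ne'] at hdet
    exact zero_ne_one hdet
  have hdi : d⁻¹ ^ n = 1 := by rw [inv_pow, hdet, inv_one]
  refine ⟨⟨scalar (Fin n) d⁻¹, by
    rw [scalar_apply, Matrix.det_diagonal, Finset.prod_const, Finset.card_univ, Fintype.card_fin, hdi]⟩,
    Matrix.SpecialLinearGroup.mem_center_iff.2 ⟨d⁻¹, by simpa using hdi, rfl⟩, ?_⟩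
  show IsUni (scalar (Fin n) d⁻¹ * g.1)
  refine isUni_of_isUpper (fun i j h => ?_) fun i => ?_
  · show (scalar (Fin n) d⁻¹ * g.1) i j = 0
    rw [scalar_apply, Matrix.diagonal_mul, hg i j h, mul_zero]
  · show (scalar (Fin n) d⁻¹ * g.1) i i = 1
    rw [scalar_apply, Matrix.diagonal_mul, hall, inv_mul_cancel₀ hd0]

end charP

/-- A unitriangular matrix commuting with all simple transvections is a transvection in the top
right corner. -/
theorem eq_transvection_of_central {M : SLn} (hM : IsUni M.1) (hn : 2 ≤ n)
    (h : ∀ (i j : Fin n) (hij : i < j), i.val + 1 = j.val →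
      M * Matrix.SpecialLinearGroup.transvection hij.ne 1 =
        Matrix.SpecialLinearGroup.transvection hij.ne 1 * M) :
    ∃ a : K, M = Matrix.SpecialLinearGroup.transvection
      (i := (⟨0, by omega⟩ : Fin n)) (j := ⟨n - 1, by omega⟩)
      (by simp [Fin.ext_iff]; omega) a := by
  refine ⟨M.1 ⟨0, by omega⟩ ⟨n - 1, by omega⟩, Subtype.ext ?_⟩
  ext r t
  rw [transvection_apply]
  have hz : ∀ i j : Fin n, ∀ hij : i < j, i.val + 1 = j.val → ∀ r t,
      (if t = j then M.1 r i else 0) = if r = i then M.1 j t else 0 := by
    intro i j hij e r t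
    have := congrArg (fun g : SLn => g.1 r t) (h i j hij e)
    simp only [Matrix.SpecialLinearGroup.coe_mul, mul_transvection_apply, transvection_mul_apply,
      one_mul] at this
    exact add_left_cancel this
  rcases le_or_gt t r with htr | hrt
  · rw [hM r t htr, Matrix.one_apply]
    have hne : ¬(r = ⟨0, by omega⟩ ∧ t = ⟨n - 1, by omega⟩) := fun h' => by
      have h1 : t.val ≤ r.val := htr
      rw [h'.1, h'.2] at h1
      have : n - 1 ≤ 0 := h1
      omega
    rw [if_neg hne, add_zero]
  rw [if_neg hrt.ne, zero_add]
  by_cases htop : r = ⟨0, by omega⟩ ∧ t = ⟨n - 1, by omega⟩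
  · rw [if_pos htop, htop.1, htop.2]
  rw [if_neg htop]
  have hrt' : r.val < t.val := hrt
  by_cases hr : r.val = 0
  · have ht : t.val + 1 < n := by
      by_contra hc
      exact htop ⟨Fin.ext hr, Fin.ext (by show t.val = n - 1; have := t.isLt; omega)⟩
    have := hz t ⟨t.val + 1, ht⟩ (by show t.val < t.val + 1; omega) rfl r ⟨t.val + 1, ht⟩
    rw [if_pos rfl, if_neg hrt.ne] at this
    exact this
  · have hi : r.val - 1 < n := by have := r.isLt; omega
    have := hz ⟨r.val - 1, hi⟩ r (by show r.val - 1 < r.val; omega) (by show r.val - 1 + 1 = r.val; omega)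
      ⟨r.val - 1, hi⟩ t
    rw [if_pos rfl, if_neg hrt.ne'] at this
    exact this.symm

/-- Unitriangular matrices are products of upper transvections. -/
theorem isUni_mem_closure {M : SLn} (hM : IsUni M.1) :
    M ∈ Subgroup.closure
      {g : SLn | ∃ (i j : Fin n) (hij : i < j) (c : K),
        c ≠ 0 ∧ g = Matrix.SpecialLinearGroup.transvection hij.ne c} := by
  classical
  obtain ⟨m, hm⟩ : ∃ m, m = (Finset.univ.filter
    fun x : Fin n × Fin n => x.1 < x.2 ∧ M.1 x.1 x.2 ≠ 0).card := ⟨_, rfl⟩
  induction m using Nat.strong_induction_on generalizing M with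
  | _ m ih =>
    by_cases hex : ∃ j : Fin n, ∃ i : Fin n, i < j ∧ M.1 i j ≠ 0
    · obtain ⟨j, hj, hjmin⟩ := Finset.exists_min_image
        (Finset.univ.filter fun j : Fin n => ∃ i : Fin n, i < j ∧ M.1 i j ≠ 0) id
        ⟨hex.choose, Finset.mem_filter.2 ⟨Finset.mem_univ _, hex.choose_spec⟩⟩
      obtain ⟨i, hij, hne⟩ := (Finset.mem_filter.1 hj).2
      have hcol : ∀ r, M.1 r i = (1 : Matrix (Fin n) (Fin n) K) r i := fun r => by
        rcases le_or_gt i r with h | h
        · exact hM r i h
        · rw [Matrix.one_apply_ne h.ne]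
          by_contra hc
          exact absurd (hjmin i (Finset.mem_filter.2 ⟨Finset.mem_univ _, r, h, hc⟩)) hij.not_ge
      set c := M.1 i j
      set M' := M * Matrix.SpecialLinearGroup.transvection hij.ne (-c) with hM'
      have hM'e : ∀ r t, M'.1 r t = if r = i ∧ t = j then 0 else M.1 r t := by
        intro r t
        rw [hM', Matrix.SpecialLinearGroup.coe_mul, mul_transvection_apply, hcol, Matrix.one_apply]
        by_cases h1 : r = i <;> by_cases h2 : t = j <;> simp [h1, h2, c]
      have hM'u : IsUni M'.1 := by
        intro r t htr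
        rw [hM'e, if_neg fun h => ?_, hM r t htr]
        exact absurd (h.1 ▸ h.2 ▸ htr : j ≤ i) hij.not_ge
      have hlt : (Finset.univ.filter fun x : Fin n × Fin n => x.1 < x.2 ∧ M'.1 x.1 x.2 ≠ 0).card
          < m := by
        rw [hm]
        refine Finset.card_lt_card (Finset.ssubset_iff_of_subset ?_ |>.2 ⟨(i, j), ?_, ?_⟩)
        · intro x hx
          rw [Finset.mem_filter] at hx ⊢
          refine ⟨hx.1, hx.2.1, fun h0 => hx.2.2 ?_⟩
          rw [hM'e]
          split_ifs
          · rfl
          · exact h0
        · exact Finset.mem_filter.2 ⟨Finset.mem_univ _, hij, hne⟩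
        · simp [hM'e]
      have h := Subgroup.mul_mem _ (ih _ hlt hM'u rfl) (Subgroup.subset_closure
        (show Matrix.SpecialLinearGroup.transvection hij.ne c ∈ _ from ⟨i, j, hij, c, hne, rfl⟩))
      have e : M' * Matrix.SpecialLinearGroup.transvection hij.ne c = M := by
        rw [hM', mul_assoc, ← Matrix.SpecialLinearGroup.transvection_add, neg_add_cancel,
          Matrix.SpecialLinearGroup.transvection_coeff_zero, mul_one]
      rwa [e] at h
    · have : M = 1 := by
        apply Subtype.ext
        ext r t
        rcases le_or_gt t r with h | h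
        · simpa using hM r t h
        · push Not at hex
          rw [Matrix.SpecialLinearGroup.coe_one, Matrix.one_apply_ne h.ne]
          exact hex t r h
      rw [this]
      exact one_mem _

/-- The transvection in the top right corner is conjugate to every upper transvection. -/
theorem exists_conj_transvection (hn : 3 ≤ n) {o l : Fin n} (hol : o ≠ l) {a : K} (ha : a ≠ 0)
    {i j : Fin n} (hij : i ≠ j) {c : K} (hc : c ≠ 0) :
    ∃ g : SLn, g * Matrix.SpecialLinearGroup.transvection hol a * g⁻¹ =
      Matrix.SpecialLinearGroup.transvection hij c := by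
  classical
  obtain ⟨σ, hσo, hσl⟩ : ∃ σ : Equiv.Perm (Fin n), σ o = i ∧ σ l = j := by
    refine ⟨Equiv.swap (Equiv.swap o i l) j * Equiv.swap o i, ?_, by simp⟩
    rw [Equiv.Perm.mul_apply, Equiv.swap_apply_left, Equiv.swap_apply_of_ne_of_ne ?_ hij]
    intro h
    refine hol ((Equiv.swap o i).injective ?_)
    rw [Equiv.swap_apply_left, ← h]
  obtain ⟨k, hk⟩ : ∃ k : Fin n, k ∉ ({o, l} : Finset (Fin n)) := by
    by_contra hcon
    push Not at hcon
    have := (Finset.card_le_card (fun x (_ : x ∈ (Finset.univ : Finset (Fin n))) => hcon x)).trans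
      Finset.card_le_two
    simp at this
    omega
  simp only [Finset.mem_insert, Finset.mem_singleton, not_or] at hk
  set s : K := ((Equiv.Perm.sign σ⁻¹ : ℤ) : K) with hs
  have hs2 : s * s = 1 := by
    rw [hs, ← Int.cast_mul, ← Units.val_mul, Int.units_mul_self]
    simp
  set d : Fin n → K := Function.update (Function.update 1 o (c / a)) k (s * a / c) with hd
  have hdo : d o = c / a := by rw [hd, Function.update_of_ne (Ne.symm hk.1), Function.update_self]
  have hdl : d l = 1 := by
    rw [hd, Function.update_of_ne (Ne.symm hk.2), Function.update_of_ne hol.symm, Pi.one_apply]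
  have hprod : ∏ x, d x = s := by
    rw [hd, Finset.prod_update_of_mem (Finset.mem_univ k), Finset.prod_update_of_mem
      (by simp [Ne.symm hk.1])]
    simp only [Pi.one_apply, Finset.prod_const_one, mul_one]
    field_simp
  set M : Matrix (Fin n) (Fin n) K := (Matrix.diagonal d).submatrix σ.symm id with hM
  have hMdet : M.det = 1 := by
    rw [hM, Matrix.det_permute, Matrix.det_diagonal, hprod]
    exact hs2
  refine ⟨⟨M, hMdet⟩, ?_⟩
  refine mul_inv_eq_of_eq_mul ?_
  apply Subtype.ext
  ext r t
  show (M * (Matrix.SpecialLinearGroup.transvection hol a).1) r t =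
    ((Matrix.SpecialLinearGroup.transvection hij c).1 * M) r t
  rw [mul_transvection_apply, transvection_mul_apply]
  congr 1
  have e1 : σ.symm i = o := σ.symm_apply_eq.2 hσo.symm
  have e2 : σ.symm j = l := σ.symm_apply_eq.2 hσl.symm
  show (if t = l then a * M r o else 0) = if r = i then c * M j t else 0
  simp only [hM, Matrix.submatrix_apply, id_eq, Matrix.diagonal_apply, e2]
  by_cases hr : r = i
  · subst hr
    rw [e1, if_pos rfl, hdo, if_pos rfl]
    by_cases ht : t = l
    · subst ht
      rw [if_pos rfl, if_pos rfl, hdl]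
      field_simp
    · rw [if_neg ht, if_neg (Ne.symm ht), mul_zero]
  · have : σ.symm r ≠ o := fun h => hr (by rw [← hσo, ← h, Equiv.apply_symm_apply])
    rw [if_neg this, mul_zero, ite_self, if_neg hr]

/-- The diagonal element `diag (…, c, c⁻¹, …)` lies in any subgroup containing both root groups. -/
theorem diag2n_mem {H : Subgroup SLn} {i j : Fin n} (hij : i ≠ j)
    (h₁ : ∀ c : K, Matrix.SpecialLinearGroup.transvection hij c ∈ H)
    (h₂ : ∀ c : K, Matrix.SpecialLinearGroup.transvection hij.symm c ∈ H) (a : K) (ha : a ≠ 0) :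
    Matrix.SpecialLinearGroup.diag2n hij a ha ∈ H := by
  rw [CfsgLib.Linear.diag2n_eq_transvections hij a ha]
  exact H.mul_mem (H.mul_mem (H.mul_mem (H.mul_mem (H.mul_mem (h₁ _) (h₂ _)) (h₁ _)) (h₁ _))
    (h₂ _)) (h₁ _)

/-- A diagonal element of `SL_n` lies in any subgroup containing all adjacent `diag (c, c⁻¹)`. -/
theorem diagonal_mem {H : Subgroup SLn}
    (h : ∀ (i j : Fin n) (hij : i ≠ j), i.val + 1 = j.val → ∀ (a : K) (ha : a ≠ 0),
      Matrix.SpecialLinearGroup.diag2n hij a ha ∈ H)
    {g : SLn} (hg : ∀ r t, r ≠ t → g.1 r t = 0) : g ∈ H := by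
  suffices H' : ∀ m : ℕ, ∀ g : SLn, (∀ r t, r ≠ t → g.1 r t = 0) →
      (∀ r : Fin n, m < r.val → g.1 r r = 1) → g ∈ H from
    H' n g hg fun r hr => absurd r.isLt (by omega)
  intro m
  induction m with
  | zero =>
    intro g hg hg1
    rcases Nat.eq_zero_or_pos n with hn | hn
    · subst hn
      rw [Subsingleton.elim g 1]
      exact one_mem _
    have hdiag : g.1 = Matrix.diagonal fun r => g.1 r r := by
      ext r t
      by_cases e : r = t
      · subst e; simp
      · rw [Matrix.diagonal_apply_ne _ e, hg r t e]
    have hdet : ∏ r, g.1 r r = 1 := by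
      rw [← Matrix.det_diagonal, ← hdiag]
      exact g.2
    rw [Finset.prod_eq_single (⟨0, hn⟩ : Fin n) (fun b _ hb => hg1 b (by
      by_contra hc
      exact hb (Fin.ext (by show b.val = 0; omega)))) (by simp)] at hdet
    have : g = 1 := by
      apply Subtype.ext
      rw [hdiag, Matrix.SpecialLinearGroup.coe_one, ← Matrix.diagonal_one]
      congr 1
      funext r
      by_cases e : r = ⟨0, hn⟩
      · rw [e, hdet]
      · exact hg1 r (by
          by_contra hc
          exact e (Fin.ext (by show r.val = 0; omega)))
    rw [this]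
    exact one_mem _
  | succ m ih =>
    intro g hg hg1
    by_cases hm : m + 1 < n
    · set j : Fin n := ⟨m + 1, hm⟩
      set i : Fin n := ⟨m, by omega⟩
      have hij : i ≠ j := by simp [i, j, Fin.ext_iff]
      have hj0 : g.1 j j ≠ 0 := by
        intro h0
        have hc : ∀ r, g.1 r j = 0 := fun r => by
          by_cases e : r = j
          · rw [e, h0]
          · exact hg r j e
        exact one_ne_zero (g.2.symm.trans (Matrix.det_eq_zero_of_column_eq_zero j hc))
      have hmem := h i j hij rfl (g.1 j j) hj0
      suffices g * Matrix.SpecialLinearGroup.diag2n hij (g.1 j j) hj0 ∈ H by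
        have h2 := H.mul_mem this (H.inv_mem hmem)
        rwa [mul_inv_cancel_right] at h2
      refine ih _ (fun r t e => ?_) fun r hr => ?_
      · rw [Matrix.SpecialLinearGroup.coe_mul, Matrix.SpecialLinearGroup.diag2n_coe,
          Matrix.mul_diagonal, hg r t e, zero_mul]
      · rw [Matrix.SpecialLinearGroup.coe_mul, Matrix.SpecialLinearGroup.diag2n_coe,
          Matrix.mul_diagonal]
        have hri : r ≠ i := fun e => by rw [e] at hr; exact lt_irrefl m hr
        by_cases e : r = j
        · subst e
          rw [if_neg hri, if_pos rfl, mul_inv_cancel₀ hj0]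
        · rw [if_neg hri, if_neg e, mul_one]
          refine hg1 r ?_
          by_contra hc
          exact e (Fin.ext (by show r.val = m + 1; omega))
    · exact ih g hg fun r hr => hg1 r (by have := r.isLt; omega)

/-- Conjugation by a transvection on an adjacent pair of indices keeps a unitriangular matrix
with zero entry there unitriangular with zero entry there. -/
theorem conj_adjacent {M : Matrix (Fin n) (Fin n) K} (hM : IsUni M) {i j : Fin n}
    (hij : i.val + 1 = j.val) (hMij : M i j = 0) {u v : Fin n} (huv : u ≠ v)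
    (hcase : (u = i ∧ v = j) ∨ (u = j ∧ v = i)) (c : K) :
    IsUni ((Matrix.SpecialLinearGroup.transvection huv c).1 * M *
      (Matrix.SpecialLinearGroup.transvection huv (-c)).1) ∧
    ((Matrix.SpecialLinearGroup.transvection huv c).1 * M *
      (Matrix.SpecialLinearGroup.transvection huv (-c)).1) i j = 0 := by
  have hijlt : i < j := by show i.val < j.val; omega
  have hval : ∀ r t, ((Matrix.SpecialLinearGroup.transvection huv c).1 * M *
      (Matrix.SpecialLinearGroup.transvection huv (-c)).1) r t =
      (M r t + if r = u then c * M v t else 0) +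
        if t = v then -c * (M r u + if r = u then c * M v u else 0) else 0 := by
    intro r t
    rw [mul_transvection_apply, transvection_mul_apply, transvection_mul_apply]
  have hji : M j i = 0 := hM.isUpper j i hijlt
  have key : ∀ r t : Fin n, t ≤ r ∨ (r = i ∧ t = j) →
      ((Matrix.SpecialLinearGroup.transvection huv c).1 * M *
        (Matrix.SpecialLinearGroup.transvection huv (-c)).1) r t = M r t := by
    intro r t hrt
    rw [hval]
    rcases hcase with ⟨hu, hv⟩ | ⟨hu, hv⟩ <;> rw [hu, hv]
    · rcases hrt with hle | ⟨h1, h2⟩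
      · by_cases e1 : r = i
        · subst e1
          have hjt : t ≠ j := fun e => absurd (e ▸ hle) hijlt.not_ge
          rw [if_pos rfl, if_neg hjt, hM.isUpper j t (lt_of_le_of_lt hle hijlt)]
          simp
        · by_cases e2 : t = j
          · subst e2
            rw [if_neg e1, if_pos rfl, if_neg e1, hM.isUpper r i (lt_of_lt_of_le hijlt hle)]
            simp
          · rw [if_neg e1, if_neg e2]
            simp
      · rw [h1, h2, if_pos rfl, if_pos rfl, if_pos rfl, hM.apply_self, hM.apply_self, hji]
        ring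
    · rcases hrt with hle | ⟨h1, h2⟩
      · by_cases e1 : r = j
        · by_cases e2 : t = i
          · rw [e1, e2, if_pos rfl, if_pos rfl, if_pos rfl, hM.apply_self, hM.apply_self, hMij]
            ring
          · have hMit : c * M i t = 0 := by
              rcases lt_trichotomy t i with h | h | h
              · rw [hM.isUpper i t h, mul_zero]
              · exact absurd h e2
              · have : t = j := by
                  have h' : i.val < t.val := h
                  have h'' : t.val ≤ r.val := hle
                  rw [e1] at h''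
                  exact Fin.ext (by omega)
                rw [this, hMij, mul_zero]
            rw [if_pos e1, if_neg e2, hMit]
            simp
        · by_cases e2 : t = i
          · have hMrj : M r j = 0 := by
              rcases lt_trichotomy r j with h | h | h
              · have : r = i := by
                  have h' : r.val < j.val := h
                  have h'' : t.val ≤ r.val := hle
                  rw [e2] at h''
                  exact Fin.ext (by omega)
                rw [this, hMij]
              · exact absurd h e1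
              · exact hM.isUpper r j h
            rw [if_neg e1, if_pos e2, if_neg e1, hMrj]
            simp
          · rw [if_neg e1, if_neg e2]
            simp
      · rw [h1, h2, if_neg hijlt.ne, if_neg hijlt.ne']
        simp
  exact ⟨fun r t htr => (key r t (Or.inl htr)).trans (hM r t htr),
    (key i j (Or.inr ⟨rfl, rfl⟩)).trans hMij⟩

end CfsgLib.FusionSimple.UpperSL
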