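/-
The defining characteristic fusion system of `PSL_n`, `n ≥ 3`, is simple.
-/
import Cfsg.Agent.FusionSimple.UpperSL
import Cfsg.Agent.FusionSimple.Central

set_option autoImplicit false

namespace CfsgLib.FusionSimple.UpperSL

open Matrix
open scoped MatrixGroups

variable {n : ℕ} {K : Type*} [Field K]

local notation "SLn" => Matrix.SpecialLinearGroup (Fin n) K

/-- The projection to `PSL_n`. -/
noncomputable def proj : SLn →* Matrix.ProjectiveSpecialLinearGroup (Fin n) K :=
  QuotientGroup.mk' (Subgroup.center SLn)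

theorem proj_surjective : Function.Surjective (proj (n := n) (K := K)) :=
  QuotientGroup.mk'_surjective _

theorem proj_eq_proj {a b : SLn} : proj a = proj b ↔ a⁻¹ * b ∈ Subgroup.center SLn :=
  QuotientGroup.eq

theorem proj_eq_one {a : SLn} : proj a = 1 ↔ a ∈ Subgroup.center SLn :=
  QuotientGroup.eq_one_iff a

theorem transvection_pow {i j : Fin n} (hij : i ≠ j) (c : K) (m : ℕ) :
    (Matrix.SpecialLinearGroup.transvection hij c : SLn) ^ m =
      Matrix.SpecialLinearGroup.transvection hij ((m : K) * c) := by
  induction m with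
  | zero => simp [Matrix.SpecialLinearGroup.transvection_coeff_zero]
  | succ m ih =>
    rw [pow_succ, ih, ← Matrix.SpecialLinearGroup.transvection_add]
    congr 1
    push_cast
    ring

variable [Finite K] (p : ℕ) [hp : Fact p.Prime] [hchar : CharP K p]

/-- The image of the unitriangular group. -/
noncomputable def imgU : Subgroup (Matrix.ProjectiveSpecialLinearGroup (Fin n) K) :=
  (upperUnip n K).map proj

include hp hchar

/-- An element of the normalizer of the image of the unitriangular group lifts only to upper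
triangular matrices. -/
theorem isUpper_of_normalizer {g : SLn}
    (hg : proj g ∈ Subgroup.normalizer ((imgU (n := n) (K := K)) : Set _)) : IsUpper g.1 := by
  refine isUpper_of_conj fun i j hij _ => ?_
  set T := Matrix.SpecialLinearGroup.transvection hij.ne (1 : K)
  have hT : proj T ∈ imgU (n := n) (K := K) := ⟨T, isUni_transvection hij 1, rfl⟩
  obtain ⟨u, hu, hue⟩ := (Subgroup.mem_normalizer_iff.1 hg _).1 hT
  rw [← map_inv, ← map_mul, ← map_mul, proj_eq_proj] at hue
  set z := u⁻¹ * (g * T * g⁻¹)
  have hcomm : ∀ x : SLn, x * z = z * x := Subgroup.mem_center_iff.1 hue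
  have hpow : z ^ p ^ n = 1 := by
    have h1 : (g * T * g⁻¹) ^ p ^ n = 1 := by
      rw [conj_pow, pow_eq_one_of_isUni p (isUni_transvection hij 1), mul_one, mul_inv_cancel]
    have h2 : (g * T * g⁻¹) = u * z := by simp [z, mul_assoc]
    rw [h2, Commute.mul_pow (hcomm u), pow_eq_one_of_isUni p (mem_upperUnip.1 hu), one_mul] at h1
    exact h1
  have hz1 : z = 1 := eq_one_of_mem_center p hue hpow
  have : g * T * g⁻¹ = u := by
    have h2 : (g * T * g⁻¹) = u * z := by simp [z, mul_assoc]
    rw [h2, hz1, mul_one]
  rw [this]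
  exact hu

/-- The image of the unitriangular group as a Sylow subgroup. -/
noncomputable def sylowU : Sylow p (Matrix.ProjectiveSpecialLinearGroup (Fin n) K) where
  toSubgroup := imgU
  isPGroup' := (isPGroup_upperUnip p).map _
  is_maximal' := by
    intro Q hQ hle
    by_contra hne
    haveI : Finite (Matrix.SpecialLinearGroup (Fin n) K) := Subtype.finite
    haveI : Finite (Matrix.ProjectiveSpecialLinearGroup (Fin n) K) :=
      Finite.of_surjective _ (proj_surjective (n := n) (K := K))
    haveI : Group.IsNilpotent Q := hQ.isNilpotent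
    have hlt : (imgU (n := n) (K := K)).subgroupOf Q < ⊤ :=
      lt_of_le_of_ne le_top fun h => hne (le_antisymm (Subgroup.subgroupOf_eq_top.1 h) hle)
    obtain ⟨⟨y, hyQ⟩, hyN, hyU⟩ := SetLike.exists_of_lt
      (Group.normalizerCondition_of_isNilpotent ((imgU (n := n) (K := K)).subgroupOf Q) hlt)
    have hyN' : y ∈ Subgroup.normalizer ((imgU (n := n) (K := K)) : Set _) := by
      rw [Subgroup.mem_normalizer_iff]
      intro h
      refine ⟨fun hh => (Subgroup.mem_normalizer_iff.1 hyN ⟨h, hle hh⟩).1 hh, fun hh => ?_⟩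
      have h2 := Q.mul_mem (Q.mul_mem (Q.inv_mem hyQ) (hle hh)) hyQ
      have h3 : h ∈ Q := by simpa [mul_assoc] using h2
      exact (Subgroup.mem_normalizer_iff.1 hyN ⟨h, h3⟩).2 hh
    obtain ⟨g, rfl⟩ := proj_surjective y
    obtain ⟨k, hk⟩ := hQ ⟨proj g, hyQ⟩
    have hk' : g ^ p ^ k ∈ Subgroup.center SLn := by
      rw [← proj_eq_one, map_pow]
      exact congrArg Subtype.val hk
    obtain ⟨z, hz, hzg⟩ := exists_center_mul_of_pow_mem_center p (isUpper_of_normalizer p hyN') hk'
    refine hyU (show proj g ∈ imgU (n := n) (K := K) from ⟨z * g, hzg, ?_⟩)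
    rw [map_mul, proj_eq_one.2 hz, one_mul]

theorem proj_inj_imgU {u v : SLn} (hu : IsUni u.1) (hv : IsUni v.1) (h : proj u = proj v) :
    u = v := by
  rw [proj_eq_proj] at h
  have hw : IsUni (u⁻¹ * v).1 := (upperUnip n K).mul_mem ((upperUnip n K).inv_mem hu) hv
  exact inv_mul_eq_one.1 (eq_one_of_mem_center p h (pow_eq_one_of_isUni p hw))

theorem commute_of_proj {u v : SLn} (hu : IsUni u.1) (hv : IsUni v.1)
    (h : proj u * proj v = proj v * proj u) : u * v = v * u := by
  rw [← map_mul, ← map_mul] at h
  exact proj_inj_imgU p ((upperUnip n K).mul_mem hu hv) ((upperUnip n K).mul_mem hv hu) h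

/-- Every closed subgroup of the image of the unitriangular group is trivial or everything. -/
theorem eq_bot_or_eq_of_closed (hn : 3 ≤ n)
    (T : Subgroup (Matrix.ProjectiveSpecialLinearGroup (Fin n) K))
    (hT : Closed (imgU (n := n) (K := K)) T) : T = ⊥ ∨ T = imgU (n := n) (K := K) := by
  refine or_iff_not_imp_left.2 fun hne => ?_
  haveI : Finite (Matrix.SpecialLinearGroup (Fin n) K) := Subtype.finite
  haveI : Finite (Matrix.ProjectiveSpecialLinearGroup (Fin n) K) :=
    Finite.of_surjective _ (proj_surjective (n := n) (K := K))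
  obtain ⟨z, hzT, hz1, hzc⟩ := exists_central_of_closed
    (p := p) ((isPGroup_upperUnip p).map _ : IsPGroup p (imgU (n := n) (K := K))) hT hne
  obtain ⟨m, hm, rfl⟩ := hT.1 hzT
  obtain ⟨a, ha⟩ := eq_transvection_of_central (mem_upperUnip.1 hm) (by omega) fun i j hij _ =>
    (commute_of_proj p (isUni_transvection hij 1) (mem_upperUnip.1 hm)
      (hzc _ ⟨_, isUni_transvection hij 1, rfl⟩)).symm
  have ha0 : a ≠ 0 := by
    rintro rfl
    rw [Matrix.SpecialLinearGroup.transvection_coeff_zero] at ha
    exact hz1 (by rw [ha, map_one])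
  refine eq_of_closed_of_generated hT (Γ := proj '' {g : SLn | ∃ (i j : Fin n) (hij : i < j) (c : K),
    c ≠ 0 ∧ g = Matrix.SpecialLinearGroup.transvection hij.ne c}) ?_ ?_ hzT ?_
  · rintro _ ⟨x, hx, rfl⟩
    have := Subgroup.mem_map_of_mem (proj (n := n) (K := K)) (isUni_mem_closure (mem_upperUnip.1 hx))
    rwa [MonoidHom.map_closure] at this
  · rintro _ ⟨_, ⟨i, j, hij, c, -, rfl⟩, rfl⟩
    exact ⟨_, isUni_transvection hij c, rfl⟩
  · rintro _ ⟨_, ⟨i, j, hij, c, hc, rfl⟩, rfl⟩
    obtain ⟨g, hg⟩ := exists_conj_transvection hn _ ha0 hij.ne hc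
    refine ⟨proj g, ?_⟩
    rw [ha, ← map_inv, ← map_mul, ← map_mul]
    exact congrArg proj hg

/-- The unitriangular matrices with vanishing `(i, j)` entry, `j = i + 1`. -/
def minParRadical {i j : Fin n} (hij : i.val + 1 = j.val) : Subgroup SLn where
  carrier := {g | g ∈ upperUnip n K ∧ g.1 i j = 0}
  one_mem' := ⟨one_mem _, by
    rw [Matrix.SpecialLinearGroup.coe_one, Matrix.one_apply_ne]
    intro e; rw [e] at hij; omega⟩
  mul_mem' {a b} ha hb := by
    refine ⟨(upperUnip n K).mul_mem ha.1 hb.1, ?_⟩
    rw [Matrix.SpecialLinearGroup.coe_mul, Matrix.mul_apply]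
    refine Finset.sum_eq_zero fun k _ => ?_
    rcases lt_or_ge k.val i.val with h | h
    · rw [(mem_upperUnip.1 ha.1).isUpper i k h, zero_mul]
    · rcases Nat.lt_or_ge j.val k.val with h' | h'
      · rw [(mem_upperUnip.1 hb.1).isUpper k j h', mul_zero]
      · have : k = i ∨ k = j := by
          rcases Nat.eq_or_lt_of_le h with h1 | h1
          · exact Or.inl (Fin.ext h1.symm)
          · exact Or.inr (Fin.ext (by omega))
        rcases this with rfl | rfl
        · rw [hb.2, mul_zero]
        · rw [ha.2, zero_mul]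
  inv_mem' {a} ha := by
    refine ⟨(upperUnip n K).inv_mem ha.1, ?_⟩
    have h1 : (a⁻¹ * a).1 i j = 0 := by
      rw [inv_mul_cancel, Matrix.SpecialLinearGroup.coe_one, Matrix.one_apply_ne]
      intro e; rw [e] at hij; omega
    rw [Matrix.SpecialLinearGroup.coe_mul, Matrix.mul_apply,
      Finset.sum_eq_single j (fun k _ hk => ?_) (by simp)] at h1
    · rwa [(mem_upperUnip.1 ha.1).apply_self, mul_one] at h1
    · rcases lt_or_ge k.val i.val with h | h
      · rw [(mem_upperUnip.1 ((upperUnip n K).inv_mem ha.1)).isUpper i k h, zero_mul]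
      · rcases Nat.lt_or_ge j.val k.val with h' | h'
        · rw [(mem_upperUnip.1 ha.1).isUpper k j h', mul_zero]
        · have : k = i := by
            rcases Nat.eq_or_lt_of_le h with h1 | h1
            · exact Fin.ext h1.symm
            · exact absurd (Fin.ext (by omega)) hk
          rw [this, ha.2, mul_zero]

/-- The basic elements generate the normalizer. -/
theorem normalizer_le_closure (hn : 3 ≤ n) :
    Subgroup.normalizer ((imgU (n := n) (K := K)) : Set _) ≤
      Subgroup.closure (basicElts p (imgU (n := n) (K := K))) := by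
  set C := Subgroup.closure (basicElts p (imgU (n := n) (K := K))) with hCdef
  set U := imgU (n := n) (K := K) with hUdef
  have hUC : U ≤ C := fun x hx =>
    Subgroup.subset_closure ⟨Subgroup.le_normalizer hx, Or.inl hx⟩
  -- adjacent diagonal elements
  have hh : ∀ (i j : Fin n) (hij : i ≠ j), i.val + 1 = j.val → ∀ (a : K) (ha : a ≠ 0),
      proj (Matrix.SpecialLinearGroup.diag2n hij a ha) ∈ C := by
    intro i j hij hadj a ha
    set R := (minParRadical (K := K) hadj).map proj with hR
    have hRU : R ≤ U := Subgroup.map_mono fun x hx => hx.1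
    -- transvections normalize the radical
    have htr : ∀ (u v : Fin n) (huv : u ≠ v), ((u = i ∧ v = j) ∨ (u = j ∧ v = i)) → ∀ c : K,
        Matrix.SpecialLinearGroup.transvection huv c ∈
          Subgroup.normalizer ((minParRadical (K := K) hadj) : Set SLn) := by
      intro u v huv hcase c
      have key : ∀ c : K, ∀ M ∈ minParRadical (K := K) hadj,
          Matrix.SpecialLinearGroup.transvection huv c * M *
            (Matrix.SpecialLinearGroup.transvection huv c)⁻¹ ∈ minParRadical (K := K) hadj := by
        intro c M hM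
        rw [Matrix.SpecialLinearGroup.transvection_inv]
        exact conj_adjacent (mem_upperUnip.1 hM.1) hadj hM.2 huv hcase c
      rw [Subgroup.mem_normalizer_iff]
      refine fun M => ⟨key c M, fun h => ?_⟩
      have := key (-c) _ h
      rw [← Matrix.SpecialLinearGroup.transvection_inv, inv_inv] at this
      simpa [mul_assoc] using this
    have hRn : ∀ x ∈ U, x ∈ Subgroup.normalizer (R : Set _) := by
      rintro _ ⟨M, hM, rfl⟩
      suffices h : M ∈ Subgroup.normalizer ((minParRadical (K := K) hadj) : Set SLn) from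
        Subgroup.le_normalizer_map _ ⟨M, h, rfl⟩
      have key : ∀ M ∈ upperUnip n K, ∀ X ∈ minParRadical (K := K) hadj,
          M * X * M⁻¹ ∈ minParRadical (K := K) hadj := by
        intro M hM X hX
        refine ⟨(upperUnip n K).mul_mem ((upperUnip n K).mul_mem hM hX.1)
          ((upperUnip n K).inv_mem hM), ?_⟩
        -- the `(i,j)` entry is additive on unitriangular matrices
        have hadd : ∀ A ∈ upperUnip n K, ∀ B ∈ upperUnip n K,
            (A * B).1 i j = A.1 i j + B.1 i j := by
          intro A hA B hB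
          rw [Matrix.SpecialLinearGroup.coe_mul, Matrix.mul_apply,
            Finset.sum_eq_add i j hij (fun k _ hk => ?_) (by simp) (by simp),
            (mem_upperUnip.1 hA).apply_self, (mem_upperUnip.1 hB).apply_self, one_mul, mul_one,
            add_comm]
          rcases lt_or_ge k.val i.val with h | h
          · rw [(mem_upperUnip.1 hA).isUpper i k h, zero_mul]
          · rcases Nat.lt_or_ge j.val k.val with h' | h'
            · rw [(mem_upperUnip.1 hB).isUpper k j h', mul_zero]
            · exfalso
              rcases Nat.eq_or_lt_of_le h with h1 | h1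
              · exact hk.1 (Fin.ext h1.symm)
              · exact hk.2 (Fin.ext (by omega))
        have h0 : (M * M⁻¹).1 i j = 0 := by
          rw [mul_inv_cancel, Matrix.SpecialLinearGroup.coe_one, Matrix.one_apply_ne hij]
        rw [hadd _ hM _ ((upperUnip n K).inv_mem hM)] at h0
        rw [hadd _ ((upperUnip n K).mul_mem hM hX.1) _ ((upperUnip n K).inv_mem hM),
          hadd _ hM _ hX.1, hX.2, add_zero, h0]
      rw [Subgroup.mem_normalizer_iff]
      refine fun X => ⟨key M hM X, fun h => ?_⟩
      have := key _ ((upperUnip n K).inv_mem hM) _ h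
      simpa [mul_assoc] using this
    have hRc : U ⊓ Subgroup.centralizer (R : Set _) ≤ R := by
      rintro _ ⟨⟨M, hM, rfl⟩, hc⟩
      refine ⟨M, ⟨hM, ?_⟩, rfl⟩
      have hcomm : ∀ X ∈ minParRadical (K := K) hadj, X * M = M * X := fun X hX =>
        commute_of_proj p (mem_upperUnip.1 hX.1) (mem_upperUnip.1 hM)
          (Subgroup.mem_centralizer_iff.1 hc _ ⟨X, hX, rfl⟩)
      by_cases hj : j.val + 1 < n
      · set k : Fin n := ⟨j.val + 1, hj⟩
        have hjk : j < k := by show j.val < j.val + 1; omega
        have hX : Matrix.SpecialLinearGroup.transvection hjk.ne (1 : K) ∈ minParRadical (K := K) hadj := by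
          refine ⟨isUni_transvection hjk 1, ?_⟩
          rw [transvection_apply, if_neg hij, if_neg (fun h => hij h.1), add_zero]
        have h1 := congrArg (fun g : SLn => g.1 i k) (hcomm _ hX)
        simp only [Matrix.SpecialLinearGroup.coe_mul, mul_transvection_apply, transvection_mul_apply,
          one_mul, if_neg hij, ↓reduceIte, add_zero] at h1
        simpa using h1
      · have hi : 0 < i.val := by have := j.isLt; omega
        set k : Fin n := ⟨i.val - 1, by omega⟩
        have hki : k < i := by show i.val - 1 < i.val; omega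
        have hX : Matrix.SpecialLinearGroup.transvection hki.ne (1 : K) ∈ minParRadical (K := K) hadj := by
          refine ⟨isUni_transvection hki 1, ?_⟩
          rw [transvection_apply, if_neg hij, if_neg (fun h => hki.ne' h.1), add_zero]
        have hji : j ≠ i := hij.symm
        have h1 := congrArg (fun g : SLn => g.1 k j) (hcomm _ hX)
        simp only [Matrix.SpecialLinearGroup.coe_mul, mul_transvection_apply, transvection_mul_apply,
          one_mul, if_neg hji, ↓reduceIte, add_zero] at h1
        exact add_eq_left.1 h1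
    refine Subgroup.subset_closure ⟨?_, Or.inr (Or.inr ⟨R, hRU, hRn, hRc, ?_⟩)⟩
    · -- diagonal elements normalize the unitriangular group
      suffices h : Matrix.SpecialLinearGroup.diag2n hij a ha ∈
          Subgroup.normalizer ((upperUnip n K) : Set SLn) from
        Subgroup.le_normalizer_map _ ⟨_, h, rfl⟩
      set D := Matrix.SpecialLinearGroup.diag2n hij a ha with hD
      have hDu : IsUpper D.1 := fun r t h => by
        rw [hD, Matrix.SpecialLinearGroup.diag2n_coe, Matrix.diagonal_apply_ne _ h.ne']
      have hDiu : IsUpper (D⁻¹).1 := by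
        have : D⁻¹ = D ^ (orderOf D - 1) := by
          refine inv_eq_of_mul_eq_one_right ?_
          haveI : Finite (Matrix.SpecialLinearGroup (Fin n) K) := Subtype.finite
          rw [← pow_succ', Nat.sub_add_cancel (orderOf_pos D), pow_orderOf_eq_one]
        rw [this, Matrix.SpecialLinearGroup.coe_pow]
        exact (hDu.pow _).1
      have key : ∀ (A : SLn), IsUpper A.1 → IsUpper (A⁻¹).1 → ∀ M ∈ upperUnip n K,
          A * M * A⁻¹ ∈ upperUnip n K := by
        intro A hA hA' M hM
        rw [mem_upperUnip, Matrix.SpecialLinearGroup.coe_mul, Matrix.SpecialLinearGroup.coe_mul]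
        refine isUni_of_isUpper ((hA.mul (mem_upperUnip.1 hM).isUpper).mul hA') fun r => ?_
        rw [mul_apply_diag (hA.mul (mem_upperUnip.1 hM).isUpper) hA',
          mul_apply_diag hA (mem_upperUnip.1 hM).isUpper, (mem_upperUnip.1 hM).apply_self, mul_one,
          ← mul_apply_diag hA hA', ← Matrix.SpecialLinearGroup.coe_mul, mul_inv_cancel,
          Matrix.SpecialLinearGroup.coe_one, Matrix.one_apply_eq]
      rw [Subgroup.mem_normalizer_iff]
      refine fun M => ⟨key D hDu hDiu M, fun h => ?_⟩
      have := key D⁻¹ hDiu (by rw [inv_inv]; exact hDu) _ h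
      simpa [mul_assoc] using this
    · refine (diag2n_mem (H := (Subgroup.closure {y | y ∈ Subgroup.normalizer (R : Set _) ∧
        ∃ k : ℕ, orderOf y = p ^ k}).comap proj) hij (fun c => Subgroup.subset_closure ?_)
        (fun c => Subgroup.subset_closure ?_) a ha : _)
      all_goals
        refine ⟨Subgroup.le_normalizer_map _ ⟨_, htr _ _ _ (by simp) c, rfl⟩, ?_⟩
        refine ((Nat.dvd_prime_pow hp.out).1 (orderOf_dvd_of_pow_eq_one
          (x := proj (Matrix.SpecialLinearGroup.transvection _ c)) (n := p ^ 1) ?_)).imp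
          fun k hk => hk.2
        rw [pow_one, ← map_pow, transvection_pow, CharP.cast_eq_zero, zero_mul,
          Matrix.SpecialLinearGroup.transvection_coeff_zero, map_one]
  intro y hy
  obtain ⟨g, rfl⟩ := proj_surjective y
  have hgu := isUpper_of_normalizer p hy
  -- split off the diagonal part
  have hd0 : ∀ r, g.1 r r ≠ 0 := by
    have h1 : g.1.det = 1 := g.2
    rw [Matrix.det_of_isUpperTriangular (fun i j h => hgu i j h)] at h1
    intro r hr
    rw [Finset.prod_eq_zero (f := fun r => g.1 r r) (Finset.mem_univ r) hr] at h1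
    exact zero_ne_one h1
  have hdet : (Matrix.diagonal fun r => g.1 r r).det = 1 := by
    rw [Matrix.det_diagonal]
    have h1 : g.1.det = 1 := g.2
    rwa [Matrix.det_of_isUpperTriangular (fun i j h => hgu i j h)] at h1
  set d : SLn := ⟨_, hdet⟩ with hd
  have hdC : proj d ∈ C := by
    refine (diagonal_mem (H := C.comap proj) (fun i j hij hadj a ha => hh i j hij hadj a ha)
      (g := d) fun r t e => Matrix.diagonal_apply_ne _ e : _)
  have hdiu : IsUni (d⁻¹ * g).1 := by
    have hdi : (d⁻¹).1 = Matrix.diagonal fun r => (g.1 r r)⁻¹ := by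
      have h1 : (d⁻¹).1 * (Matrix.diagonal fun r => g.1 r r) = 1 := by
        show (d⁻¹).1 * d.1 = 1
        rw [← Matrix.SpecialLinearGroup.coe_mul, inv_mul_cancel, Matrix.SpecialLinearGroup.coe_one]
      have h2 : (Matrix.diagonal fun r => (g.1 r r)) * (Matrix.diagonal fun r => (g.1 r r)⁻¹) = 1 := by
        rw [Matrix.diagonal_mul_diagonal, ← Matrix.diagonal_one]
        congr 1
        funext r
        exact mul_inv_cancel₀ (hd0 r)
      calc (d⁻¹).1 = (d⁻¹).1 * ((Matrix.diagonal fun r => g.1 r r) *
            (Matrix.diagonal fun r => (g.1 r r)⁻¹)) := by rw [h2, mul_one]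
        _ = _ := by rw [← mul_assoc, h1, one_mul]
    rw [Matrix.SpecialLinearGroup.coe_mul, hdi]
    refine isUni_of_isUpper (fun r t h => ?_) fun r => ?_
    · rw [Matrix.diagonal_mul, hgu r t h, mul_zero]
    · rw [Matrix.diagonal_mul, inv_mul_cancel₀ (hd0 r)]
  have e : proj g = proj d * proj (d⁻¹ * g) := by rw [← map_mul, mul_inv_cancel_left]
  rw [e]
  exact C.mul_mem hdC (hUC ⟨_, hdiu, rfl⟩)

/-- The fusion system of `PSL_n` in the defining characteristic is simple for `n ≥ 3`. -/
theorem isSimple_PSL (hn : 3 ≤ n) (S : Sylow p (Matrix.ProjectiveSpecialLinearGroup (Fin n) K)) :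
    (Cfsg.groupFusionSystem
      (S : Subgroup (Matrix.ProjectiveSpecialLinearGroup (Fin n) K))).IsSimple p := by
  haveI : Finite (Matrix.SpecialLinearGroup (Fin n) K) := Subtype.finite
  haveI : Finite (Matrix.ProjectiveSpecialLinearGroup (Fin n) K) :=
    Finite.of_surjective _ (proj_surjective (n := n) (K := K))
  refine isSimple_of_one_sylow (sylowU p) ?_ (eq_bot_or_eq_of_closed p hn)
    (normalizer_le_closure p hn) S
  intro h
  have hij : (⟨0, by omega⟩ : Fin n) < ⟨1, by omega⟩ := Nat.zero_lt_one
  have hT : proj (Matrix.SpecialLinearGroup.transvection hij.ne (1 : K)) ∈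
      (imgU (n := n) (K := K)) := ⟨_, isUni_transvection hij 1, rfl⟩
  have h1 : proj (Matrix.SpecialLinearGroup.transvection hij.ne (1 : K)) = proj (1 : SLn) :=
    (Subgroup.mem_bot.1 ((h : imgU (n := n) (K := K) = ⊥) ▸ hT)).trans (map_one _).symm
  have h2 := proj_inj_imgU p (isUni_transvection hij 1) (upperUnip n K).one_mem h1
  have h3 := congrArg (fun g : SLn => g.1 ⟨0, by omega⟩ ⟨1, by omega⟩) h2
  simp [transvection_apply] at h3

end CfsgLib.FusionSimple.UpperSL
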